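import Cfsg.Agent.Base
import Cfsg.Agent.Lib.InvChar.SylowIn
import Cfsg.Agent.Lib.Invol.Dihedral
import Cfsg.Agent.Lib.Inv73.Basic
import Cfsg.Agent.Lib.Core.Coprime
import Cfsg.Agent.Lib.Core.HallSZ
import Cfsg.Agent.Lib.Core.PCore

/-!
Elements lying in a unique Sylow `2`-subgroup.
-/

set_option autoImplicit false
set_option linter.style.haveILetI false

open Cfsg Subgroup
open scoped commutatorElement

namespace H72

variable {G : Type*} [Group G]

/-- `x` lies in at most one Sylow `2`-subgroup. -/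
def Rigid (x : G) : Prop := ∀ S T : Sylow 2 G, x ∈ S → x ∈ T → S = T

theorem mem_smul_sylow' {p : ℕ} {g x : G} {P : Sylow p G} : x ∈ g • P ↔ g⁻¹ * x * g ∈ P :=
  mem_smul_sylow

theorem conj_mem_smul_sylow {p : ℕ} {g x : G} {P : Sylow p G} (hx : x ∈ P) :
    g * x * g⁻¹ ∈ g • P := by
  rw [mem_smul_sylow']
  simpa [mul_assoc] using hx

theorem Rigid.conj {x : G} (h : Rigid x) (g : G) : Rigid (g * x * g⁻¹) := by
  intro S T hS hT
  have h1 : g⁻¹ • S = g⁻¹ • T := h _ _ (by rw [mem_smul_sylow']; simpa using hS)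
    (by rw [mem_smul_sylow']; simpa using hT)
  exact MulAction.injective g⁻¹ h1

theorem Rigid.of_isConj {x y : G} (h : Rigid x) (hxy : IsConj x y) : Rigid y := by
  obtain ⟨g, rfl⟩ := isConj_iff.1 hxy
  exact h.conj g

theorem Rigid.le {x : G} (h : Rigid x) {S : Sylow 2 G} (hS : x ∈ S) {Q : Subgroup G}
    (hQ : IsPGroup 2 Q) (hx : x ∈ Q) : Q ≤ S := by
  obtain ⟨T, hT⟩ := hQ.exists_le_sylow
  rw [h S T hS (hT hx)]
  exact hT

theorem Rigid.mem_normalizer {x : G} (h : Rigid x) {S : Sylow 2 G} (hS : x ∈ S) {g : G}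
    (hg : g * x * g⁻¹ ∈ S) : g ∈ normalizer ((S : Subgroup G) : Set G) :=
  Sylow.smul_eq_iff_mem_normalizer.1 (h.conj g _ _ (conj_mem_smul_sylow hS) hg)

theorem Rigid.centralizer_le {x : G} (h : Rigid x) {S : Sylow 2 G} (hS : x ∈ S) :
    centralizer ({x} : Set G) ≤ normalizer ((S : Subgroup G) : Set G) := fun g hg =>
  h.mem_normalizer hS (by rw [H73.mem_centralizer_singleton_iff_conj.1 hg]; exact hS)

/-- A `2`-subgroup commuting with a conjugate of a central element of a Sylow subgroup lies in a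
Sylow subgroup in which that conjugate is central. -/
theorem exists_sylow_central [Finite G] {p : ℕ} [Fact p.Prime] (S : Sylow p G) {z : G} (hz : z ∈ S)
    (hc : ∀ s ∈ S, s * z = z * s) (g : G) {Q : Subgroup G} (hQ : IsPGroup p Q)
    (hQc : Q ≤ centralizer ({g * z * g⁻¹} : Set G)) :
    ∃ T : Sylow p G, Q ≤ T ∧ g * z * g⁻¹ ∈ T ∧ ∀ s ∈ T, s * (g * z * g⁻¹) = g * z * g⁻¹ * s := by
  have h1 : ((g • S : Sylow p G) : Subgroup G) ≤ centralizer ({g * z * g⁻¹} : Set G) := by
    intro s hs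
    rw [H73.mem_centralizer_conj_iff, mem_centralizer_singleton_iff]
    exact hc _ (mem_smul_sylow.1 hs)
  obtain ⟨c, hc', hcQ⟩ := exists_conj_mem_sylow_of_le (g • S) h1 hQ hQc
  have hcz := H73.mem_centralizer_singleton_iff_conj.1 hc'
  refine ⟨c⁻¹ • g • S, fun q hq => ?_, ?_, fun s hs => ?_⟩
  · rw [mem_smul_sylow, inv_inv]; exact hcQ q hq
  · rw [mem_smul_sylow', inv_inv, hcz]; exact conj_mem_smul_sylow hz
  · rw [mem_smul_sylow', inv_inv] at hs
    have h2 := mul_mem (mul_mem (inv_mem hc') (h1 hs)) hc'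
    rw [← mem_centralizer_singleton_iff]
    simpa [mul_assoc] using h2

/-- Two involutions `z`, `u`; every `2`-subgroup containing `z` centralizes `z`. Then there is
`y` with `y² = 1` commuting with both such that `z y` is conjugate to `u`. -/
theorem exists_commute_isConj [Finite G] {z u : G} (hz : z * z = 1) (hu : u * u = 1)
    (hc : ∀ Q : Subgroup G, IsPGroup 2 Q → z ∈ Q → ∀ q ∈ Q, q * z = z * q) :
    ∃ y : G, y * y = 1 ∧ Commute y z ∧ Commute y u ∧ IsConj (z * y) u := by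
  obtain ⟨a, m, hm, ham⟩ := Nat.exists_eq_two_pow_mul_odd (orderOf_pos (z * u)).ne'
  set y := (z * u) ^ m with hy
  have hzy : z * y * z⁻¹ = y⁻¹ := H9.conj_pow_of_inverts (H9.left_inverts hz hu) m
  have huy : u * y * u⁻¹ = y⁻¹ := H9.conj_pow_of_inverts (H9.right_inverts hz hu) m
  have hzi : z⁻¹ = z := inv_eq_of_mul_eq_one_left hz
  have hzyy : (z * y) * (z * y) = 1 := by
    calc (z * y) * (z * y) = (z * y * z⁻¹) * y := by rw [hzi]; group
      _ = 1 := by rw [hzy]; group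
  have hP : IsPGroup 2 (closure ({z, z * y} : Set G)) := H9.isPGroup_closure_pair hz hzyy (a := a)
    (by rw [← mul_assoc, hz, one_mul, hy, ← pow_mul, mul_comm m, ← ham, pow_orderOf_eq_one])
  have hz' : z ∈ closure ({z, z * y} : Set G) := subset_closure (by simp)
  have hzy' : z * y ∈ closure ({z, z * y} : Set G) := subset_closure (by simp)
  have hcomm : Commute y z := by
    have := hc _ hP hz' _ hzy'
    rw [mul_assoc] at this
    exact mul_left_cancel this
  have hyy : y * y = 1 := by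
    rw [← hcomm.eq, mul_assoc, mul_inv_cancel, mul_one] at hzy
    exact mul_eq_one_iff_eq_inv.2 hzy
  have hcu : Commute y u := H9.commute_of_inverts_of_mul_self huy hyy
  refine ⟨y, hyy, hcomm, hcu, H9.isConj_of_odd hzyy hu ?_⟩
  have h1 : (z * y * u) ^ m = 1 := by
    have : z * y * u = y * (z * u) := by rw [← hcomm.eq]; group
    rw [this, (hcomm.mul_right hcu).mul_pow, ← hy]
    obtain ⟨k, rfl⟩ := hm
    rw [pow_succ, pow_mul, pow_two, hyy, one_pow, one_mul, hyy]
  exact hm.of_dvd_nat (orderOf_dvd_of_pow_eq_one h1)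

/-- A complement of a Sylow `2`-subgroup `S` in its normalizer, and the decomposition
`S = [S, X] C_S(X)`. -/
theorem exists_odd_complement [Finite G] (S : Sylow 2 G) :
    ∃ X : Subgroup G, X ≤ normalizer ((S : Subgroup G) : Set G) ∧ Odd (Nat.card X) ∧
      (∀ n ∈ normalizer ((S : Subgroup G) : Set G), ∃ s ∈ S, ∃ x ∈ X, n = s * x) ∧
      ∀ s ∈ S, ∃ c ∈ S, (∀ x ∈ X, x * c = c * x) ∧ ∃ d ∈ ⁅(S : Subgroup G), X⁆, s = c * d := by
  have hrel : ¬ 2 ∣ (S : Subgroup G).relIndex (normalizer ((S : Subgroup G) : Set G)) :=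
    fun h => S.not_dvd_index (h.trans (relIndex_dvd_index_of_le le_normalizer))
  have hodd : Odd ((S : Subgroup G).relIndex (normalizer ((S : Subgroup G) : Set G))) :=
    Nat.not_even_iff_odd.1 fun h => hrel (even_iff_two_dvd.1 h)
  obtain ⟨X, h1, h2, -, h4⟩ := H3.exists_complement_in (N := (S : Subgroup G)) le_normalizer le_rfl
    (H1.coprime_card_of_isPGroup_of_coprime S.isPGroup' (Nat.coprime_two_right.2 hodd))
  refine ⟨X, h1, h4 ▸ hodd, fun n hn => ?_, fun s hs => ?_⟩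
  · rw [← h2, ← SetLike.mem_coe, coe_mul_of_right_le_normalizer_left _ _ h1] at hn
    obtain ⟨s, hs, x, hx, rfl⟩ := hn
    exact ⟨s, hs, x, hx, rfl⟩
  · haveI := S.isPGroup'.isNilpotent
    obtain ⟨c, hc, d, hd, rfl⟩ := H2.exists_centralizer_mul_commutator h1
      (H1.coprime_card_of_isPGroup_of_coprime S.isPGroup'
        (Nat.coprime_two_right.2 (h4 ▸ hodd))).symm (Or.inr inferInstance) hs
    exact ⟨c, hc.1, fun x hx => mem_centralizer_iff.1 hc.2 x hx, d, hd, rfl⟩

/-- An element of odd order lies in every normal subgroup with `2`-group quotient. -/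
theorem mem_of_odd_of_two_pow {C : Subgroup G} (hC : ∀ g : G, ∃ k : ℕ, g ^ 2 ^ k ∈ C) {x : G}
    (hx : Odd (orderOf x)) : x ∈ C := by
  obtain ⟨k, hk⟩ := hC x
  have hcop : (2 ^ k).Coprime (orderOf x) := (Nat.coprime_two_left.2 hx).pow_left k
  obtain ⟨m, hm⟩ := exists_pow_eq_self_of_coprime hcop
  rw [← hm]
  exact pow_mem hk m

/-- The abstract core of the theorem on cyclic Sylow intersections. -/
theorem false_of_types [Finite G] (A : G → Prop) (C : Subgroup G) [C.Normal]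
    (hZ : ∀ (S : Sylow 2 G) (z : G), z ∈ S → orderOf z = 2 →
      ∃ g : G, g * z * g⁻¹ ∈ S ∧ g * z * g⁻¹ ≠ z)
    (hO : ∀ (S : Sylow 2 G) (u : G), orderOf u = 2 → ∃ g : G, g * u * g⁻¹ ∉ S)
    (hconj : ∀ x g : G, A x → A (g * x * g⁻¹))
    (hrig : ∀ x : G, orderOf x = 2 → ¬ A x → Rigid x)
    (hAC : ∀ x : G, A x → x ∈ C)
    (hadd : ∀ x ∈ C, ∀ y ∈ C, x * x = 1 → y * y = 1 → Commute x y → A y → (A (x * y) ↔ ¬ A x))
    (hC : ∀ g : G, ∃ k : ℕ, g ^ 2 ^ k ∈ C) (hCe : Even (Nat.card C)) (hne : C ≠ ⊤)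
    (hpow : ∀ s : G, s ∉ C → ∀ u ∈ zpowers s, orderOf u = 2 → ¬ A u) : False := by
  obtain ⟨S⟩ : Nonempty (Sylow 2 G) := inferInstance
  have hconj' : ∀ x y : G, IsConj x y → A x → A y := by
    intro x y h hx
    obtain ⟨g, rfl⟩ := isConj_iff.1 h
    exact hconj x g hx
  -- a central involution of type `B` inside `C`
  obtain ⟨z, hzS, hzC, hz, hzc, hzA⟩ : ∃ z ∈ S, z ∈ C ∧ orderOf z = 2 ∧
      (∀ s ∈ S, s * z = z * s) ∧ ¬ A z := by
    obtain ⟨t, htC, ht⟩ := (H9.even_card_iff_exists_involution C).1 hCe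
    obtain ⟨g, hg⟩ := H9.exists_conj_involution_mem_sylow S (H9.mul_self_of_orderOf_two ht)
    obtain ⟨z, hz, hzc, hzo⟩ := H5.exists_mem_centralizer_orderOf_eq (P := (S : Subgroup G))
      (N := (S : Subgroup G) ⊓ C) S.isPGroup' inf_le_left
      (fun s hs => mem_normalizer_of_conj_mem fun k hk =>
        mem_inf.2 ⟨mul_mem (mul_mem hs (mem_inf.1 hk).1) (inv_mem hs),
          Normal.conj_mem inferInstance _ (mem_inf.1 hk).2 s⟩)
      (by
        intro h
        have : g * t * g⁻¹ ∈ (S : Subgroup G) ⊓ C := ⟨hg, Normal.conj_mem inferInstance _ htC g⟩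
        rw [h, mem_bot] at this
        exact H9.ne_one_of_orderOf_two ((H9.orderOf_conj g t).trans ht) this)
    have hzc' : ∀ s ∈ S, s * z = z * s := fun s hs => mem_centralizer_iff.1 hzc s hs
    by_cases hA : A z
    swap
    · exact ⟨z, hz.1, hz.2, hzo, hzc', hA⟩
    obtain ⟨h, hh, hne⟩ := hZ S z hz.1 hzo
    have hzz := H9.mul_self_of_orderOf_two hzo
    have hzz' := H73.conj_mul_self hzz h
    have hcomm : Commute z (h * z * h⁻¹) := (hzc' _ hh).symm
    have hC' : h * z * h⁻¹ ∈ C := Normal.conj_mem inferInstance _ hz.2 h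
    have hb : ¬ A (z * (h * z * h⁻¹)) := by
      rw [hadd z hz.2 _ hC' hzz hzz' hcomm (hconj z h hA)]
      exact not_not.2 hA
    have hbo : orderOf (z * (h * z * h⁻¹)) = 2 := by
      refine H9.orderOf_eq_two_of_mul_self (fun e => hne ?_) ?_
      · rw [eq_inv_of_mul_eq_one_right e, inv_eq_of_mul_eq_one_left hzz]
      · rw [← pow_two, hcomm.mul_pow, pow_two, pow_two, hzz, hzz', one_mul]
    obtain ⟨T, hT1, hT2, hT3⟩ := exists_sylow_central S hz.1 hzc' h
      (H9.isPGroup_zpowers_of_mul_self hzz)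
      (by rw [zpowers_le, mem_centralizer_singleton_iff]; exact hcomm)
    have hST : S = T := hrig _ hbo hb S T (mul_mem hz.1 hh) (mul_mem (hT1 (mem_zpowers z)) hT2)
    subst hST
    refine ⟨_, mul_mem hz.1 hh, mul_mem hz.2 hC', hbo, fun s hs => ?_, hb⟩
    rw [← mul_assoc, hzc' s hs, mul_assoc, hT3 s hs, ← mul_assoc]
  have hzz := H9.mul_self_of_orderOf_two hz
  have hzr := hrig z hz hzA
  -- every involution of type `B` in `S` is central in `S`
  have hcen : ∀ u ∈ S, orderOf u = 2 → ¬ A u → ∀ s ∈ S, s * u = u * s := by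
    intro u huS hu huA
    obtain ⟨g, hg⟩ := hO S u hu
    have huu := H9.mul_self_of_orderOf_two hu
    have hur := hrig u hu huA
    obtain ⟨y, hyy, hyz, hyu, hc⟩ := exists_commute_isConj hzz (H73.conj_mul_self huu g)
      fun Q hQ hzQ q hq => hzc q (hzr.le hzS hQ hzQ hq)
    have hc' : IsConj (z * y) u := hc.trans (isConj_iff.2 ⟨g, rfl⟩).symm
    by_cases hy1 : y = 1
    · rw [hy1, mul_one] at hc'
      obtain ⟨h, rfl⟩ := isConj_iff.1 hc'
      have hn := hzr.mem_normalizer hzS huS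
      intro s hs
      rw [← mem_centralizer_singleton_iff, H73.mem_centralizer_conj_iff,
        mem_centralizer_singleton_iff]
      exact hzc _ (inv_conj_mem_of_mem_normalizer hn hs)
    exfalso
    have hyo := H9.orderOf_eq_two_of_mul_self hy1 hyy
    have hy1 : y ∈ S := hzr.le hzS (H9.isPGroup_closure_pair_of_commute hyy hzz hyz)
      (subset_closure (by simp)) (subset_closure (by simp))
    have hy2 : y ∈ g • S := (hur.conj g).le (conj_mem_smul_sylow huS)
      (H9.isPGroup_closure_pair_of_commute hyy (H73.conj_mul_self huu g) hyu)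
      (subset_closure (by simp)) (subset_closure (by simp))
    have hyA : A y := by
      by_contra h
      have := hrig y hyo h _ _ hy1 hy2
      exact hg (this ▸ conj_mem_smul_sylow huS)
    exact huA (hconj' _ _ hc' ((hadd z hzC y (hAC y hyA) hzz hyy hyz.symm hyA).2 hzA))
  obtain ⟨X, hX1, hX2, hX3, hX4⟩ := exists_odd_complement S
  have hXC : X ≤ C := fun x hx => mem_of_odd_of_two_pow hC
    (hX2.of_dvd_nat (by simpa using orderOf_dvd_natCard (⟨x, hx⟩ : X)))
  obtain ⟨s₀, hs₀, hs₀C⟩ : ∃ s ∈ S, s ∉ C := by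
    by_contra h
    push Not at h
    apply hne
    rw [eq_top_iff]
    intro g _
    obtain ⟨a, m, hm, ham⟩ := Nat.exists_eq_two_pow_mul_odd (orderOf_pos g).ne'
    obtain ⟨k, hk⟩ := H9.exists_conj_mem_sylow S (H9.isPGroup_zpowers_of_pow (p := 2) (a := a)
      (x := g ^ m) (by rw [← pow_mul, mul_comm, ← ham, pow_orderOf_eq_one]))
    have h1 : g ^ m ∈ C := by
      have := Normal.conj_mem inferInstance _ (h _ (hk _ (mem_zpowers _))) k⁻¹
      simpa [mul_assoc] using this
    obtain ⟨j, hj⟩ := hC g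
    have hcop : (2 ^ j).Coprime m := (Nat.coprime_two_left.2 hm).pow_left j
    have h2 := C.pow_mem (n := 1) (C.mul_mem (C.zpow_mem hj (Nat.gcdA (2 ^ j) m))
      (C.zpow_mem h1 (Nat.gcdB (2 ^ j) m)))
    rw [pow_one, ← zpow_natCast, ← zpow_natCast, ← zpow_mul, ← zpow_mul, ← zpow_add,
      ← Nat.gcd_eq_gcd_ab, hcop.gcd_eq_one] at h2
    simpa using h2
  obtain ⟨s, hsS, hsX, d, hd, rfl⟩ := hX4 s₀ hs₀
  have hdC : d ∈ C := (commutator_mono le_top hXC).trans (commutator_le_right _ _) hd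
  have hsC : s ∉ C := fun h => hs₀C (mul_mem h hdC)
  obtain ⟨u, hus, hu⟩ := H9.exists_involution_of_isPGroup (X := zpowers s)
    (S.isPGroup'.to_le (zpowers_le.2 hsS)) (by
      rw [Ne, zpowers_eq_bot]
      rintro rfl
      exact hsC (one_mem _))
  have huA := hpow s hsC u hus hu
  have huS : u ∈ S := zpowers_le.2 hsS hus
  obtain ⟨g, hg, hne⟩ := hZ S u huS hu
  obtain ⟨t, ht, x, hx, rfl⟩ := hX3 g ((hrig u hu huA).mem_normalizer huS hg)
  apply hne
  obtain ⟨k, rfl⟩ := hus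
  have h1 : Commute x (s ^ k) := Commute.zpow_right (hsX x hx) k
  have h2 : Commute t (s ^ k) := hcen _ huS hu huA t ht
  exact H73.conj_eq_of_commute (h2.mul_left h1)

end H72
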