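import Cfsg.Agent.Base
import Cfsg.Agent.Lib.InvChar.Rigid
import Cfsg.Agent.Lib.InvChar.AutChain
import Cfsg.Agent.Lib.Core.Fitting
import Cfsg.Agent.S0205
import Cfsg.Agent.S0215

/-!
Groups in which distinct Sylow `2`-subgroups meet in a cyclic group.
-/

set_option autoImplicit false
set_option linter.style.haveILetI false

open Cfsg Subgroup
open scoped commutatorElement

namespace H72

variable {G : Type*} [Group G]

/-- Distinct Sylow `2`-subgroups meet in a cyclic group. -/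
def CycInt (G : Type*) [Group G] : Prop :=
  ∀ S T : Sylow 2 G, S ≠ T → IsCyclic ↥((S : Subgroup G) ⊓ (T : Subgroup G))

theorem exists_lift_inter [Finite G] {G' : Type*} [Group G'] {p : ℕ} [Fact p.Prime] {f : G →* G'}
    (hf : Function.Surjective f) {S' T' : Sylow p G'} (h : S' ≠ T') :
    ∃ S T : Sylow p G, S ≠ T ∧
      (S' : Subgroup G') ⊓ T' = ((S : Subgroup G) ⊓ (T : Subgroup G)).map f := by
  obtain ⟨S, rfl⟩ := Sylow.mapSurjective_surjective hf p S'
  obtain ⟨T, rfl⟩ := Sylow.mapSurjective_surjective hf p T'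
  have hle : (T : Subgroup G) ≤ ((T : Subgroup G).map f).comap f := le_comap_map _ _
  obtain ⟨c, hc, hc'⟩ := exists_conj_mem_sylow_of_le T hle
    (A := (S : Subgroup G) ⊓ ((T : Subgroup G).map f).comap f) S.isPGroup'.to_inf_left inf_le_right
  have hmap : ((c⁻¹ • T : Sylow p G) : Subgroup G).map f = (T : Subgroup G).map f := by
    have hc2 : f c ∈ (T : Subgroup G).map f := hc
    apply le_antisymm
    · rintro _ ⟨x, hx, rfl⟩
      have h1 : c * x * c⁻¹ ∈ (T : Subgroup G) := by simpa using mem_smul_sylow.1 hx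
      have h2 := mul_mem (mul_mem (inv_mem hc2) (mem_map_of_mem f h1)) hc2
      simpa [mul_assoc] using h2
    · rintro _ ⟨x, hx, rfl⟩
      obtain ⟨y, hy, hy'⟩ := mul_mem (mul_mem hc2 (mem_map_of_mem f hx)) (inv_mem hc2)
      refine ⟨c⁻¹ * y * c, ?_, ?_⟩
      · change _ ∈ ((c⁻¹ • T : Sylow p G) : Subgroup G)
        rw [mem_smul_sylow, show c⁻¹⁻¹ * (c⁻¹ * y * c) * c⁻¹ = y by group]
        exact hy
      · simp [hy', mul_assoc]
  refine ⟨S, c⁻¹ • T, fun e => h ?_, le_antisymm ?_ ?_⟩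
  · ext1
    rw [Sylow.coe_mapSurjective, Sylow.coe_mapSurjective, ← hmap, ← e]
  · rintro _ ⟨⟨x, hx, rfl⟩, hT⟩
    refine ⟨x, ⟨hx, ?_⟩, rfl⟩
    change _ ∈ ((c⁻¹ • T : Sylow p G) : Subgroup G)
    rw [mem_smul_sylow, inv_inv]
    exact hc' x ⟨hx, hT⟩
  · rw [Sylow.coe_mapSurjective, Sylow.coe_mapSurjective, ← hmap]
    exact map_inf_le _ _ _

theorem exists_inter_of_injective {H : Type*} [Group H] {p : ℕ} {f : H →* G}
    (hf : Function.Injective f) {S' T' : Sylow p H} (h : S' ≠ T') :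
    ∃ S T : Sylow p G, S ≠ T ∧
      (S' : Subgroup H) ⊓ T' = ((S : Subgroup G) ⊓ (T : Subgroup G)).comap f := by
  obtain ⟨S, hS⟩ := S'.exists_comap_eq_of_injective hf
  obtain ⟨T, hT⟩ := T'.exists_comap_eq_of_injective hf
  refine ⟨S, T, fun e => h ?_, by rw [comap_inf, hS, hT]⟩
  ext1
  rw [← hS, ← hT, e]

theorem isCyclic_map {G' : Type*} [Group G'] (f : G →* G') {H : Subgroup G} (h : IsCyclic H) :
    IsCyclic (H.map f) :=
  isCyclic_of_surjective (f.subgroupMap H) (f.subgroupMap_surjective H)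

theorem isCyclic_comap {H : Type*} [Group H] {f : H →* G} (hf : Function.Injective f)
    {K : Subgroup G} (h : IsCyclic K) : IsCyclic (K.comap f) :=
  isCyclic_of_injective (f.subgroupComap K) fun _ _ e =>
    Subtype.ext (hf (congrArg Subtype.val e))

theorem CycInt.of_surjective [Finite G] (h : CycInt G) {G' : Type*} [Group G'] {f : G →* G'}
    (hf : Function.Surjective f) : CycInt G' := by
  intro S' T' hne
  obtain ⟨S, T, h1, h2⟩ := exists_lift_inter hf hne
  rw [h2]
  exact isCyclic_map f (h S T h1)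

theorem CycInt.of_injective (h : CycInt G) {H : Type*} [Group H] {f : H →* G}
    (hf : Function.Injective f) : CycInt H := by
  intro S' T' hne
  obtain ⟨S, T, h1, h2⟩ := exists_inter_of_injective hf hne
  rw [h2]
  exact isCyclic_comap hf (h S T h1)

theorem isSolvable_of_odd [Finite G] (h : Odd (Nat.card G)) : Group.IsSolvable G :=
  Cfsg.Agent.S0205.result h

theorem isSolvable_oddCore [Finite G] : Group.IsSolvable (oddCore G) :=
  isSolvable_of_odd H1.odd_card_oddCore

theorem isSolvable_of_sylow_normal [Finite G] (S : Sylow 2 G) [(S : Subgroup G).Normal] :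
    Group.IsSolvable G := by
  haveI := S.isPGroup'.isNilpotent
  refine H1.isSolvable_of_normal_of_quotient (S : Subgroup G) inferInstance (isSolvable_of_odd ?_)
  rw [← index_eq_card, ← Nat.not_even_iff_odd, even_iff_two_dvd]
  exact S.not_dvd_index

theorem exists_ne_sylow [Finite G] (h : ¬ Group.IsSolvable G) (S : Sylow 2 G) :
    ∃ T : Sylow 2 G, S ≠ T := by
  by_contra hT
  push Not at hT
  haveI : (S : Subgroup G).Normal := by
    rw [← normalizer_eq_top_iff, eq_top_iff]
    exact fun g _ => Sylow.smul_eq_iff_mem_normalizer.1 (hT _).symm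
  exact h (isSolvable_of_sylow_normal S)

theorem CycInt.isCyclic_pCore [Finite G] (h : CycInt G) (hns : ¬ Group.IsSolvable G) :
    IsCyclic (pCore 2 G) := by
  obtain ⟨S⟩ : Nonempty (Sylow 2 G) := inferInstance
  obtain ⟨T, hT⟩ := exists_ne_sylow hns S
  haveI := h S T hT
  exact isCyclic_of_le (le_inf (H1.pCore_le_sylow S) (H1.pCore_le_sylow T))

/-- The quotient by the centralizer of a normal cyclic `2`-subgroup is a `2`-group. -/
theorem exists_pow_mem_centralizer [Finite G] {V : Subgroup G} [V.Normal] [IsCyclic V]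
    (hV : IsPGroup 2 V) (g : G) : ∃ k : ℕ, g ^ 2 ^ k ∈ centralizer (V : Set G) := by
  obtain ⟨k, hk⟩ := isPGroup_two_mulAut_of_isCyclic hV (MulAut.conjNormal g : MulAut V)
  refine ⟨k, mem_centralizer_iff.2 fun v hv => ?_⟩
  rw [← map_pow] at hk
  have := congrArg (fun φ : MulAut V => ((φ ⟨v, hv⟩ : V) : G)) hk
  simp only [MulAut.conjNormal_apply, MulAut.one_apply] at this
  rw [mul_inv_eq_iff_eq_mul] at this
  exact this.symm

/-- If `O(G) = 1` and `O₂(G)` is cyclic then solvable normal subgroups are `2`-groups. -/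
theorem le_pCore_of_isCyclic [Finite G] (hO : oddCore G = ⊥) (hV : IsCyclic (pCore 2 G))
    (N : Subgroup G) [N.Normal] (hN : Group.IsSolvable N) : N ≤ pCore 2 G := by
  have h1 : pPrimeCore 2 N = ⊥ := by
    have := H1.map_subtype_pPrimeCore_le (p := 2) N
    rw [show pPrimeCore 2 G = ⊥ from hO, le_bot_iff,
      map_eq_bot_iff_of_injective _ N.subtype_injective] at this
    exact this
  have h2 := H1.centralizer_pCore_le_of_isSolvable h1
  haveI : IsCyclic (pCore 2 N) := by
    haveI : IsCyclic ((pCore 2 G).comap N.subtype) := isCyclic_comap N.subtype_injective hV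
    refine isCyclic_of_le (H' := (pCore 2 G).comap N.subtype) ?_
    rw [← map_le_iff_le_comap]
    exact H1.map_subtype_pCore_le N
  refine H1.le_pCore fun n => ?_
  obtain ⟨k, hk⟩ := exists_pow_mem_centralizer (H1.isPGroup_pCore (p := 2) (G := N)) n
  obtain ⟨j, hj⟩ := H1.isPGroup_pCore (p := 2) (G := N) ⟨_, h2 hk⟩
  refine ⟨k + j, ?_⟩
  rw [pow_add, pow_mul]
  exact congrArg Subtype.val hj

theorem oddCore_quotient_eq_bot [Finite G] (hO : oddCore G = ⊥) (hV : IsCyclic (pCore 2 G)) :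
    oddCore (G ⧸ pCore 2 G) = ⊥ := by
  haveI := (H1.isPGroup_pCore (p := 2) (G := G)).isNilpotent
  have h := le_pCore_of_isCyclic hO hV ((oddCore (G ⧸ pCore 2 G)).comap (QuotientGroup.mk' _))
    (H1.isSolvable_of_map_of_ker (QuotientGroup.mk' (pCore 2 G)) (by
      rw [map_comap_eq_self_of_surjective (QuotientGroup.mk'_surjective _)]
      exact isSolvable_oddCore) (by
      rw [QuotientGroup.ker_mk']
      exact Group.isSolvable_of_isSolvable_injective
        (inclusion_injective (inf_le_left (a := pCore 2 G)))))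
  rw [eq_bot_iff]
  intro x hx
  obtain ⟨g, rfl⟩ := QuotientGroup.mk'_surjective _ x
  exact (QuotientGroup.eq_one_iff g).2 (h hx)

/-- The `Z*`-theorem when `O(G) = O₂(G) = 1`. -/
theorem exists_conj_ne [Finite G] (hO : oddCore G = ⊥) (h2 : pCore 2 G = ⊥) (S : Sylow 2 G) {z : G}
    (hz : z ∈ S) (ho : orderOf z = 2) : ∃ g : G, g * z * g⁻¹ ∈ S ∧ g * z * g⁻¹ ≠ z := by
  by_contra h
  push Not at h
  obtain ⟨N, hN, hodd, hc⟩ := Cfsg.Agent.S0215.result S z ho hz h
  have h1 : N ≤ ⊥ := hO ▸ H1.le_oddCore hodd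
  haveI : (zpowers z).Normal := H73.zpowers_normal_of_central fun g => by
    have := mem_bot.1 (h1 (hc g))
    calc g * z * g⁻¹ = (z * g * z⁻¹ * g⁻¹) * (g * z * g⁻¹) := by rw [this, one_mul]
      _ = z := by group
  have h3 : zpowers z ≤ ⊥ := h2 ▸ H1.le_pCore
    (H9.isPGroup_zpowers_of_mul_self (H9.mul_self_of_orderOf_two ho))
  exact H9.ne_one_of_orderOf_two ho (mem_bot.1 (h3 (mem_zpowers z)))

theorem exists_conj_not_mem {p : ℕ} (h2 : pCore p G = ⊥) (S : Sylow p G) {u : G} (hu : u ≠ 1) :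
    ∃ g : G, g * u * g⁻¹ ∉ S := by
  by_contra h
  push Not at h
  apply hu
  rw [← mem_bot, ← h2, H1.pCore_eq_normalCore S]
  exact h

/-- In a cyclic group there is at most one involution. -/
theorem eq_of_mul_self_of_isCyclic [Finite G] {D : Subgroup G} (hD : IsCyclic D) {a b : G}
    (ha : a ∈ D) (hb : b ∈ D) (ha2 : orderOf a = 2) (hb2 : orderOf b = 2) : a = b := by
  obtain ⟨c, hc⟩ := (isCyclic_iff_exists_zpowers_eq_top.1 hD)
  have hmem : ∀ x ∈ D, x ∈ zpowers (c : G) := by
    intro x hx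
    obtain ⟨k, hk⟩ : (⟨x, hx⟩ : D) ∈ zpowers c := hc ▸ mem_top _
    exact ⟨k, congrArg Subtype.val hk⟩
  rw [(H9.eq_pow_half_of_mem_zpowers ha2 (hmem a ha)).2,
    (H9.eq_pow_half_of_mem_zpowers hb2 (hmem b hb)).2]

/-- **Cyclic Sylow intersections**: `O₂(G)` is central if `O(G) = 1`. -/
theorem CycInt.le_center_aux [Finite G] (h : CycInt G) (hns : ¬ Group.IsSolvable G)
    {V : Subgroup G} [V.Normal] (hV : IsCyclic V) (hVp : IsPGroup 2 V)
    (hO' : oddCore (G ⧸ V) = ⊥) (h2' : pCore 2 (G ⧸ V) = ⊥) : V ≤ center G := by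
  have hVS : ∀ S : Sylow 2 G, V ≤ S := fun S => hVp.le_sylow_of_normal S
  by_contra hne
  obtain ⟨c, hc⟩ : ∃ c : G, zpowers c = V := by
    obtain ⟨c, hc⟩ := (isCyclic_iff_exists_zpowers_eq_top.1 hV)
    refine ⟨c, le_antisymm (zpowers_le.2 c.2) fun x hx => ?_⟩
    obtain ⟨k, hk⟩ : (⟨x, hx⟩ : V) ∈ zpowers c := hc ▸ mem_top _
    exact ⟨k, congrArg Subtype.val hk⟩
  have hcV : c ∈ V := hc ▸ mem_zpowers c
  set C := centralizer (V : Set G) with hCdef
  have hVC : V ≤ C := by
    intro v hv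
    rw [mem_centralizer_iff]
    intro w hw
    rw [← hc] at hv
    rw [← hc] at hw
    obtain ⟨i, rfl⟩ := hv
    obtain ⟨j, rfl⟩ := hw
    exact (Commute.zpow_zpow_self c j i).eq
  have hmemC : ∀ g : G, g * c = c * g → g ∈ C := by
    intro g hg
    rw [mem_centralizer_iff]
    intro w hw
    rw [← hc] at hw
    obtain ⟨j, rfl⟩ := hw
    exact (Commute.zpow_right hg j).eq.symm
  have hCne : C ≠ ⊤ := fun e => hne fun v hv => mem_center_iff.2 fun g =>
    (mem_centralizer_iff.1 (e ▸ mem_top g : g ∈ C) v hv).symm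
  -- the order of `c` is a power of two, at least four
  obtain ⟨n, hn⟩ : ∃ n, orderOf c = 2 ^ n := by
    obtain ⟨k, hk⟩ := IsPGroup.iff_card.1 hVp
    exact ⟨k, by rw [← hk, ← hc, Nat.card_zpowers]⟩
  have hn2 : 2 ≤ n := by
    by_contra hlt
    apply hCne
    rw [eq_top_iff]
    intro g _
    apply hmemC
    have hcc : c * c = 1 := by
      rw [← pow_two, ← orderOf_dvd_iff_pow_eq_one, hn]
      exact (Nat.pow_dvd_pow 2 (show n ≤ 1 by omega))
    have h1 : g * c * g⁻¹ ∈ zpowers c := hc ▸ Normal.conj_mem inferInstance c hcV g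
    rcases (H73.mem_zpowers_of_mul_self hcc).1 h1 with h2 | h2
    · have : c = 1 := by simpa using h2
      simp [this]
    · exact mul_inv_eq_iff_eq_mul.1 h2
  set D := zpowers (c * c) with hD
  have hDV : D ≤ V := zpowers_le.2 (mul_mem hcV hcV)
  have hcD : c ∉ D := by
    rintro ⟨k, hk⟩
    have h1 : c ^ (2 * k - 1) = 1 := by
      change (c * c) ^ k = c at hk
      rw [zpow_sub, zpow_mul, zpow_two, hk]; simp
    rw [← orderOf_dvd_iff_zpow_eq_one, hn] at h1
    have h2 : (2 : ℤ) ∣ 2 * k - 1 := by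
      refine Dvd.dvd.trans ?_ h1
      push_cast
      exact dvd_pow_self 2 (by omega)
    omega
  have hVD : ∀ v ∈ V, v ∈ D ∨ v * c ∈ D := by
    intro v hv
    rw [← hc] at hv
    obtain ⟨k, rfl⟩ := hv
    obtain ⟨j, rfl | rfl⟩ := Int.even_or_odd' k
    · exact Or.inl ⟨j, by change (c * c) ^ j = c ^ (2 * j); rw [zpow_mul, zpow_two]⟩
    · refine Or.inr ⟨j + 1, ?_⟩
      change (c * c) ^ (j + 1) = c ^ (2 * j + 1) * c
      rw [← zpow_two, ← zpow_mul, ← zpow_add_one]
      congr 1; ring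
  have hsq : ∀ v ∈ V, v * v ∈ D := by
    intro v hv
    rw [← hc] at hv
    obtain ⟨k, rfl⟩ := hv
    exact ⟨k, by change (c * c) ^ k = c ^ k * c ^ k; rw [(Commute.refl c).mul_zpow]⟩
  have hmul : ∀ a ∈ V, ∀ b ∈ V, b ∉ D → (a * b ∉ D ↔ a ∈ D) := by
    intro a ha b hb hbD
    constructor
    · intro h1
      by_contra h2
      have h3 := (hVD a ha).resolve_left h2
      have h4 := (hVD b hb).resolve_left hbD
      have h5 := mul_mem (mul_mem h3 h4) (inv_mem (mem_zpowers (c * c)))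
      apply h1
      have hbc : b * c = c * b := mem_centralizer_iff.1 (hVC hcV) b hb
      have : a * c * (b * c) * (c * c)⁻¹ = a * b := by
        rw [hbc, mul_assoc a c, ← mul_assoc c c b, ← pow_two,
          (show Commute (c ^ 2) b from (Commute.pow_left hbc.symm 2)).eq]
        group
      exact this ▸ h5
    · intro h1 h2
      exact hbD (by simpa using mul_mem (inv_mem h1) h2)
  have hinvD : ∀ v ∈ V, v * v = 1 → v ∈ D := by
    intro v hv hvv
    by_contra h1
    have h2 := (hVD v hv).resolve_left h1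
    obtain ⟨k, hk⟩ := h2
    change (c * c) ^ k = v * c at hk
    have hvc : v * c = c * v := mem_centralizer_iff.1 (hVC hcV) v hv
    have h3 : c ^ (4 * k - 2) = 1 := by
      have h4 : (v * c) * (v * c) = c * c := by
        rw [mul_assoc, ← mul_assoc c v c, ← hvc, ← mul_assoc, ← mul_assoc, hvv, one_mul]
      rw [← hk, ← zpow_two, ← zpow_two, ← zpow_mul, ← zpow_mul] at h4
      rw [zpow_sub, show 4 * k = 2 * (k * 2) by ring, h4]; simp
    rw [← orderOf_dvd_iff_zpow_eq_one, hn] at h3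
    have h5 : (4 : ℤ) ∣ 4 * k - 2 := by
      refine Dvd.dvd.trans ?_ h3
      push_cast
      exact pow_dvd_pow 2 hn2
    omega
  have hgen : ∀ v ∈ V, v ∉ D → c ∈ zpowers v := by
    intro v hv h1
    obtain ⟨k, hk⟩ := (hVD v hv).resolve_left h1
    change (c * c) ^ k = v * c at hk
    have h2 : v = c ^ (2 * k - 1) := by
      rw [zpow_sub, zpow_mul, zpow_two, hk]; simp
    rw [h2, mem_zpowers_zpow_iff, hn]
    push_cast
    rw [← Int.isCoprime_iff_gcd_eq_one]
    exact IsCoprime.pow_right ⟨-1, k, by ring⟩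
  haveI hDn : D.Normal := ⟨by
    rintro _ ⟨k, rfl⟩ g
    have := hsq _ (Normal.conj_mem inferInstance c hcV g)
    have h2 := zpow_mem this k
    change g * (c * c) ^ k * g⁻¹ ∈ D
    rw [← conj_zpow]
    convert h2 using 2
    group⟩
  let π := QuotientGroup.mk' V
  have hπ : Function.Surjective π := QuotientGroup.mk'_surjective V
  have hπ1 : ∀ x, π x = 1 ↔ x ∈ V := fun x => QuotientGroup.eq_one_iff x
  let A : G ⧸ V → Prop := fun y => ∃ x, π x = y ∧ x ∈ C ∧ x * x ∉ D
  have hA : ∀ x, A (π x) ↔ x ∈ C ∧ x * x ∉ D := by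
    intro x
    refine ⟨?_, fun hx => ⟨x, rfl, hx⟩⟩
    rintro ⟨y, hy, hyC, hyD⟩
    have hv : y⁻¹ * x ∈ V := by rw [← hπ1, map_mul, map_inv, hy, inv_mul_cancel]
    have hx : x = y * (y⁻¹ * x) := by group
    refine ⟨hx ▸ mul_mem hyC (hVC hv), fun h1 => hyD ?_⟩
    have h2 : x * x = y * y * ((y⁻¹ * x) * (y⁻¹ * x)) := by
      have := mem_centralizer_iff.1 hyC _ hv
      calc x * x = y * ((y⁻¹ * x) * y) * (y⁻¹ * x) := by group
        _ = y * y * ((y⁻¹ * x) * (y⁻¹ * x)) := by rw [this]; group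
    rw [h2] at h1
    exact (D.mul_mem_cancel_right (hsq _ hv)).1 h1
  have hmemC' : ∀ x, π x ∈ C.map π ↔ x ∈ C := by
    intro x
    rw [← mem_comap, comap_map_eq_self (by rw [QuotientGroup.ker_mk']; exact hVC)]
  haveI : (C.map π).Normal := Normal.map inferInstance π hπ
  have hpowC : ∀ g : G, ∃ k : ℕ, g ^ 2 ^ k ∈ C := exists_pow_mem_centralizer hVp
  refine false_of_types A (C.map π) (fun S z hz ho => exists_conj_ne hO' h2' S hz ho)
    (fun S u hu => exists_conj_not_mem h2' S (H9.ne_one_of_orderOf_two hu)) ?_ ?_ ?_ ?_ ?_ ?_ ?_ ?_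
  · intro y g hy
    obtain ⟨x, rfl⟩ := hπ y
    obtain ⟨g, rfl⟩ := hπ g
    rw [← map_mul, ← map_inv, ← map_mul, hA]
    rw [hA] at hy
    refine ⟨Normal.conj_mem inferInstance _ hy.1 g, fun h1 => hy.2 ?_⟩
    have := hDn.conj_mem _ h1 g⁻¹
    simpa [mul_assoc] using this
  · intro y hy hyA S' T' hS hT
    by_contra hST
    obtain ⟨S, T, h1, h2⟩ := exists_lift_inter hπ hST
    obtain ⟨x, hx, rfl⟩ : y ∈ ((S : Subgroup G) ⊓ (T : Subgroup G)).map π := h2 ▸ ⟨hS, hT⟩
    have hcyc := h S T h1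
    have hVle : V ≤ (S : Subgroup G) ⊓ T := le_inf (hVS S) (hVS T)
    have hcomm : ∀ a ∈ (S : Subgroup G) ⊓ T, ∀ b ∈ (S : Subgroup G) ⊓ T, a * b = b * a := by
      intro a ha b hb
      letI := hcyc.commGroup
      exact congrArg Subtype.val (mul_comm (⟨a, ha⟩ : ↥((S : Subgroup G) ⊓ T)) ⟨b, hb⟩)
    apply hyA
    rw [hA]
    refine ⟨hmemC x (hcomm x hx c (hVle hcV)), ?_⟩
    rintro ⟨k, hk⟩
    change (c * c) ^ k = x * x at hk
    have hxc : Commute x c := hcomm x hx c (hVle hcV)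
    have hw : (x * (c ^ k)⁻¹) * (x * (c ^ k)⁻¹) = 1 := by
      rw [← pow_two, (hxc.zpow_right k).inv_right.mul_pow, pow_two, ← hk, inv_pow, pow_two,
        (Commute.refl c).mul_zpow, mul_inv_cancel]
    have hxV : x ∉ V := fun e => H9.ne_one_of_orderOf_two hy ((hπ1 x).2 e)
    have hw1 : x * (c ^ k)⁻¹ ≠ 1 := fun e => hxV (by
      rw [mul_inv_eq_one.1 e]; exact zpow_mem hcV k)
    have he : Even (orderOf c) := by rw [hn]; exact (Nat.even_pow.2 ⟨even_two, by omega⟩)
    have h3 := eq_of_mul_self_of_isCyclic hcyc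
      (mul_mem hx (inv_mem (zpow_mem (hVle hcV) k))) (pow_mem (hVle hcV) _)
      (H9.orderOf_eq_two_of_mul_self hw1 hw) (H9.orderOf_pow_half he)
    apply hxV
    rw [mul_inv_eq_iff_eq_mul.1 h3]
    exact mul_mem (pow_mem hcV _) (zpow_mem hcV k)
  · rintro _ ⟨x, rfl, hx, -⟩
    exact mem_map_of_mem π hx
  · rintro _ ⟨x, hx, rfl⟩ _ ⟨y, hy, rfl⟩ hxx hyy hxy hyA
    rw [← map_mul, hπ1] at hxx hyy
    rw [← map_mul, hA, hA]
    rw [hA] at hyA
    have hw : y * x * y⁻¹ * x⁻¹ ∈ V := by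
      rw [← hπ1]
      simp only [map_mul, map_inv]
      rw [← hxy.eq]; group
    have hwy := mem_centralizer_iff.1 hy _ hw
    have hwx := mem_centralizer_iff.1 hx _ hw
    have hyx := mem_centralizer_iff.1 hx _ hyy
    generalize hwdef : y * x * y⁻¹ * x⁻¹ = w at hw hwy hwx
    have e1 : y * x = w * x * y := by rw [← hwdef]; group
    have hww : w * w = 1 := by
      have e2 : y * y * x = w * w * (x * (y * y)) := by
        calc y * y * x = y * (y * x) := by group
          _ = (y * w) * x * y := by rw [e1]; group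
          _ = w * (y * x) * y := by rw [← hwy]; group
          _ = w * w * (x * (y * y)) := by rw [e1]; group
      rw [← hyx] at e2
      simpa using e2.symm
    have e3 : x * y * (x * y) = w * (x * x) * (y * y) := by
      calc x * y * (x * y) = x * (y * x) * y := by group
        _ = (x * w) * x * y * y := by rw [e1]; group
        _ = w * (x * x) * (y * y) := by rw [← hwx]; group
    rw [e3, hmul _ (mul_mem hw hxx) _ hyy hyA.2, D.mul_mem_cancel_left (hinvD w hw hww)]
    have := mul_mem hx hy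
    tauto
  · intro y
    obtain ⟨g, rfl⟩ := hπ y
    obtain ⟨k, hk⟩ := hpowC g
    exact ⟨k, by rw [← map_pow]; exact mem_map_of_mem π hk⟩
  · by_contra hodd
    rw [Nat.not_even_iff_odd] at hodd
    apply hns
    haveI := hVp.isNilpotent
    refine H1.isSolvable_of_normal_of_quotient C
      (H1.isSolvable_of_map_of_ker π (isSolvable_of_odd hodd) (by
        rw [QuotientGroup.ker_mk']
        exact Group.isSolvable_of_isSolvable_injective
          (inclusion_injective (inf_le_left (a := V))))) ?_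
    have hp : IsPGroup 2 (G ⧸ C) := by
      intro y
      obtain ⟨g, rfl⟩ := QuotientGroup.mk_surjective y
      obtain ⟨k, hk⟩ := hpowC g
      exact ⟨k, by rw [← QuotientGroup.mk_pow, QuotientGroup.eq_one_iff]; exact hk⟩
    haveI := hp.isNilpotent
    infer_instance
  · intro e
    apply hCne
    rw [eq_top_iff]
    intro g _
    rw [← hmemC', e]
    exact mem_top _
  · intro y hy u hu ho huA
    obtain ⟨s, rfl⟩ := hπ y
    obtain ⟨k, rfl⟩ := hu
    change A (π s ^ k) at huA
    change orderOf (π s ^ k) = 2 at ho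
    rw [← map_zpow] at huA ho
    rw [hA] at huA
    have hv : s ^ k * s ^ k ∈ V := by
      rw [← hπ1, map_mul]; exact H9.mul_self_of_orderOf_two ho
    obtain ⟨j, hj⟩ := hgen _ hv huA.2
    apply hy
    rw [hmemC']
    apply hmemC
    rw [← hj]
    exact (((Commute.refl s).zpow_right k).mul_right ((Commute.refl s).zpow_right k)).zpow_right j

theorem CycInt.pCore_le_center [Finite G] (h : CycInt G) (hns : ¬ Group.IsSolvable G)
    (hO : oddCore G = ⊥) : pCore 2 G ≤ center G :=
  h.le_center_aux hns (h.isCyclic_pCore hns) H1.isPGroup_pCore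
    (oddCore_quotient_eq_bot hO (h.isCyclic_pCore hns)) H1.pCore_quotient_pCore

end H72
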