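import Cfsg.Agent.Base
import Cfsg.Agent.Lib.InvChar.CycInt
import Cfsg.Agent.Lib.Comp.FStar
import Cfsg.Agent.Lib.PComp.Local
import Cfsg.Agent.Lib.FGS83.Syl

/-! Simple components of groups with `O(G) = O₂(G) = 1`; involution centralisers mod the core. -/

set_option autoImplicit false
set_option linter.style.haveILetI false
set_option linter.unusedSectionVars false
namespace H72
open Cfsg Subgroup
open scoped commutatorElement
variable {G : Type*} [Group G] [Finite G]

theorem fitting_eq_bot (hO : oddCore G = ⊥) (h2 : pCore 2 G = ⊥) : fittingSubgroup G = ⊥ := by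
  rw [H1.fitting_eq_bot_iff]
  intro p hp
  by_cases e : p = 2
  · rw [e, h2]
  · haveI : Fact p.Prime := ⟨hp⟩
    rw [eq_bot_iff, ← hO]
    obtain ⟨k, hk⟩ := IsPGroup.iff_card.1 (H1.isPGroup_pCore (p := p) (G := G))
    exact H1.le_oddCore (hk ▸ (hp.odd_of_ne_two e).pow)

theorem not_isSolvable_of_component {K : Subgroup G} (hK : IsComponent K) :
    ¬ Group.IsSolvable K := fun h => H23.IsComponent.not_le_of_isSolvable hK h le_rfl

theorem not_comm_of_component {K : Subgroup G} (hK : IsComponent K) : ¬ IsMulCommutative K :=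
  fun h => not_isSolvable_of_component hK (H2.isSolvable_of_isMulCommutative h)

theorem exists_involution_of_not_isSolvable {K : Subgroup G} (hK : ¬ Group.IsSolvable K) :
    ∃ t ∈ K, orderOf t = 2 := by
  have h : 2 ∣ Nat.card K := by
    by_contra h
    exact hK (isSolvable_of_odd (Nat.odd_iff.2 (Nat.two_dvd_ne_zero.1 h)))
  obtain ⟨t, ht⟩ := exists_prime_orderOf_dvd_card' 2 h
  exact ⟨t, t.2, by rw [orderOf_coe, ht]⟩

theorem exists_component [Nontrivial G] (hO : oddCore G = ⊥) (h2 : pCore 2 G = ⊥) :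
    ∃ K : Subgroup G, IsComponent K ∧ IsSimpleGroup K := by
  have hF := fitting_eq_bot hO h2
  have h1 : layer G ≠ ⊥ := by
    intro h
    apply H23.fStar_ne_bot (G := G)
    rw [H23.fStar_def, h, hF, bot_sup_eq]
  rw [Ne, H23.layer_eq_bot_iff] at h1
  push Not at h1
  obtain ⟨K, hK⟩ := h1
  exact ⟨K, hK, H23.IsComponent.isSimpleGroup_of_fitting_eq_bot hK hF⟩

/-- A component centralised by no involution is normal, and self-centralising if `O(G) = 1`. -/
theorem normal_of_component {K : Subgroup G} (hK : IsComponent K) (hO : oddCore G = ⊥)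
    (h : ∀ t : G, orderOf t = 2 → ¬ K ≤ centralizer ({t} : Set G)) :
    K.Normal ∧ centralizer (K : Set G) = ⊥ := by
  have key : ∀ t ∈ centralizer (K : Set G), orderOf t ≠ 2 := by
    intro t ht ho
    exact h t ho fun k hk => mem_centralizer_singleton_iff.2 (ht k hk)
  have hn : K.Normal := by
    refine ⟨fun k hk g => ?_⟩
    have hK' := H23.IsComponent.map_conj hK g
    rcases H23.IsComponent.eq_or_commutator_eq_bot hK' hK with e | e
    · rw [← e]; exact conj_mem_map_conj hk
    · obtain ⟨t, ht, ho⟩ := exists_involution_of_not_isSolvable (not_isSolvable_of_component hK')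
      exact absurd ho (key t (commutator_eq_bot_iff_le_centralizer.1 e ht))
  refine ⟨hn, ?_⟩
  rw [eq_bot_iff, ← hO]
  refine H1.le_oddCore ?_
  by_contra he
  obtain ⟨t, ht⟩ := exists_prime_orderOf_dvd_card' 2
    (even_iff_two_dvd.1 (Nat.not_odd_iff_even.1 he))
  exact key t t.2 (by rw [orderOf_coe, ht])

theorem exists_involution_lift {G' : Type*} [Group G'] {f : G →* G'} (hf : Function.Surjective f)
    (hk : Odd (Nat.card f.ker)) {y : G'} (hy : orderOf y = 2) : ∃ x : G, f x = y ∧ orderOf x = 2 := by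
  obtain ⟨x, rfl, k, hx⟩ := H83.exists_lift_pElement hf (p := 2) ⟨1, by rw [hy, pow_one]⟩
  refine ⟨x, rfl, ?_⟩
  have h1 : x ^ 2 ∈ f.ker := by rw [MonoidHom.mem_ker, map_pow, ← hy, pow_orderOf_eq_one]
  have h2 : orderOf (x ^ 2) ∣ Nat.card f.ker := f.ker.orderOf_dvd_natCard h1
  have h3 : orderOf (x ^ 2) ∣ 2 ^ k := hx ▸ orderOf_pow_dvd 2
  have h4 : orderOf (x ^ 2) = 1 :=
    Nat.eq_one_of_dvd_coprimes (Nat.Coprime.pow_right k (Nat.coprime_two_right.2 hk)) h2 h3
  refine orderOf_eq_prime (orderOf_eq_one_iff.1 h4) ?_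
  rintro rfl
  simp at hy

theorem exists_centralizer_lift {y : G ⧸ oddCore G} (hy : orderOf y = 2) :
    ∃ x : G, QuotientGroup.mk' _ x = y ∧ orderOf x = 2 ∧
      (centralizer ({x} : Set G)).map (QuotientGroup.mk' (oddCore G)) = centralizer {y} := by
  obtain ⟨x, rfl, hx⟩ := exists_involution_lift (QuotientGroup.mk'_surjective (oddCore G))
    (by rw [QuotientGroup.ker_mk']; exact H1.odd_card_oddCore) hy
  refine ⟨x, rfl, hx, ?_⟩
  have := H44.map_centralizer_mk' (H44.isPGroup_zpowers_of_orderOf hx)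
  rwa [MonoidHom.map_zpowers, zpowers_eq_closure, zpowers_eq_closure, centralizer_closure,
    centralizer_closure] at this

theorem isMulCommutative_sylow_of_surjective {G' : Type*} [Group G'] {f : G →* G'}
    (hf : Function.Surjective f) {p : ℕ} [Fact p.Prime] (S : Sylow p G)
    (hS : IsMulCommutative (S : Subgroup G)) :
    IsMulCommutative ((S.mapSurjective hf : Sylow p G') : Subgroup G') := by
  refine ⟨⟨fun a b => Subtype.ext ?_⟩⟩
  obtain ⟨_, a, ha, rfl⟩ := a
  obtain ⟨_, b, hb, rfl⟩ := b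
  show f a * f b = f b * f a
  rw [← map_mul, ← map_mul, setLike_mul_comm (s := (S : Subgroup G)) ha hb]

/-- A normal subgroup containing a Sylow 2-subgroup has solvable quotient. -/
theorem isSolvable_of_sylow_le (S : Sylow 2 G) {N : Subgroup G} [N.Normal]
    (hS : (S : Subgroup G) ≤ N) (hN : Group.IsSolvable N) : Group.IsSolvable G := by
  refine H1.isSolvable_of_normal_of_quotient N hN (isSolvable_of_odd ?_)
  rw [← index_eq_card]
  exact Nat.odd_iff.2 (Nat.two_dvd_ne_zero.1 fun h => S.not_dvd_index (h.trans (index_dvd_of_le hS)))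

end H72
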