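import Cfsg.Agent.Base
import Cfsg.Agent.Lib.TwoFusion.QW
import Cfsg.Agent.Lib.TwoFusion.U34Model
import Cfsg.Agent.Lib.MinDeg8.U3Pts
import Cfsg.Agent.Lib.BSE14.Cor
import Cfsg.Agent.Lib.CIT.Main
import Cfsg.Agent.Lib.CompW.Dich
import Cfsg.Agent.Lib.CompW.KeySE
import Cfsg.Agent.Lib.CompW.KeyFT
import Cfsg.Agent.Lib.Sig.PartIb

/-! Groups whose involution centralizers have normal 2-complements. -/

set_option autoImplicit false
set_option linter.style.haveILetI false

namespace H72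

open Subgroup Cfsg

variable {G : Type*} [Group G] [Finite G]

theorem sft_two (G : Type*) [Group G] [Finite G] : H3.CW.SFT 2 G := by
  intro A θ hA h3 hθ
  exact H43.sft_two A (fun a ha b hb => H43.ea_comm hA ha hb) hA.2 h3 θ
    hθ.1.1 hθ.1.2.1 hθ.1.2.2.1 hθ.2 hθ.1.2.2.2

theorem se_comap_equiv {X Y : Type*} [Group X] [Group Y] [Finite X] (e : X ≃* Y) {H : Subgroup Y}
    (h : IsStronglyEmbedded H) : IsStronglyEmbedded (H.comap (e : X →* Y)) := by
  haveI : Finite Y := Finite.of_equiv X e.toEquiv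
  rw [H9.isStronglyEmbedded_iff] at h ⊢
  refine ⟨fun h1 => h.1 (eq_top_iff.2 fun y _ => ?_), ?_, fun t ht h2 g hg => ?_⟩
  · obtain ⟨x, rfl⟩ := e.surjective y
    exact h1.ge (mem_top x)
  · rw [comap_equiv_eq_map_symm, card_map_of_injective e.symm.injective]
    exact h.2.1
  · exact h.2.2 (e t) ht (by rw [e.orderOf_eq, h2]) (e g) (by simpa using hg)

theorem se_psu34 {F : Type*} [Field F] [Fintype F] (hF : Fintype.card F = 16) :
    ∃ H : Subgroup (PSU 3 F 4), IsStronglyEmbedded H := by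
  haveI := H41.isSq_of_card hF
  have h2 : (2 : F) = 0 := H41.two_eq_zero_of_isSq F
  obtain ⟨e, he⟩ := H8.U3.exists_iso F 4
  have hse : IsStronglyEmbedded (H8.U3.St 4 e) := by
    rw [H9.isStronglyEmbedded_iff]
    refine ⟨fun h1 => ?_, ?_, fun t ht ho g hg => ?_⟩
    · have := H8.U3.index_St he
      rw [h1, index_top] at this
      omega
    · rw [H8.U3.card_St he]; decide
    · obtain ⟨a, ha⟩ := ht
      have h3 : a ^ 2 = 1 := by
        have := H8.U3.ac_pow ha 2
        rw [← ho, pow_orderOf_eq_one, ho, H8.U3.ac_one] at this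
        exact H8.U3.smul_inj he.1 (by rw [← this, one_smul])
      have h4 : a = 1 := by
        have : (a - 1) ^ 2 = 0 := by linear_combination h3 + (1 - a) * h2
        exact sub_eq_zero.1 (pow_eq_zero_iff two_ne_zero |>.1 this)
      have h5 : t ∈ H8.U3.Fx 4 e := by rw [H8.U3.mem_Fx, ha, h4, one_smul]
      have h6 : t ∈ H8.U3.St 4 (H8.U3.ac g⁻¹ e) := by
        rw [← H8.U3.conj_mem_St, inv_inv]; exact hg
      have h7 : t ≠ 1 := fun e => by rw [e, orderOf_one] at ho; omega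
      exact (inv_mem_iff (x := g)).1 (H8.U3.eq_smul_of_fix he (he.ac g⁻¹) h5 h7 h6)
  exact ⟨_, se_comap_equiv ((QuotientGroup.quotientMulEquivOfEq (H41.center_SU_three_four F)).trans
    QuotientGroup.quotientBot) hse⟩

/-- Every involution centralizer has a normal 2-complement. -/
def IGrp (G : Type*) [Group G] : Prop :=
  ∀ t : G, orderOf t = 2 → HasNormalPComplement 2 (centralizer ({t} : Set G))

theorem IGrp.fix (h : IGrp G) {z : G} (hz : orderOf z = 2) {U : Subgroup G} (hU : IsPGroup 2 U)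
    (hUz : ∀ u ∈ U, u * z = z * u) {g : G} (hg : g * z = z * g) (hn : g ∈ normalizer (U : Set G))
    (ho : Odd (orderOf g)) {a : G} (ha : a ∈ U) : g * a * g⁻¹ = a := by
  have := H4.mem_centralizer_of_hasNormalPComplement (h z hz) hU
    (fun u hu => mem_centralizer_singleton_iff.2 (hUz u hu)) (mem_centralizer_singleton_iff.2 hg) hn
    (Nat.coprime_two_right.2 ho) a ha
  rw [← this, mul_inv_cancel_right]

theorem IGrp.not_qw (h : IGrp G) (hG : ∀ H : Subgroup G, H.index ≠ 2) (P : Sylow 2 G) :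
    ¬ H41.QW (P : Subgroup G) := by
  rintro (⟨k, x, y, q⟩ | ⟨k, x, y, t, q⟩)
  · refine q.not_isConj_of_hq (fun j g hg ho a ha => h.fix q.orderOf_z (q.isPGroup.to_le (q.q8_le j))
      (fun u hu => q.z_comm (q.q8_le j hu)) ?_ hg ho ha) (q.isConj_of_no_index_two hG).2
    have h1 := (mem_normalizer_iff.1 hg _).1 (q.z_mem_q8 j)
    have h2 : g * q.z * g⁻¹ * (g * q.z * g⁻¹) = 1 := by rw [conj_mul, q.zz]; group
    rw [← mul_inv_eq_iff_eq_mul]
    rcases q.invol (q.q8_le j h1) h2 with e | e | ⟨i, e⟩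
    · exact absurd (conj_eq_one_iff.1 e) q.z_ne_one
    · exact e
    · exfalso
      rw [e] at h1
      obtain ⟨l, e1 | e1⟩ := (q.mem_q8 j _).1 h1
      · exact q.notMem_zpowers_w _ ⟨l, e1.symm⟩
      · rw [q.w_def, ← zpow_mul, ← mul_assoc, ← zpow_add, mul_left_inj, q.zpow_inj] at e1
        have : (2 : ℤ) ∣ 2 * 2 ^ k * l + (2 * j + 1) - 2 * i := Dvd.dvd.trans ⟨4 * 2 ^ k, by ring⟩ e1
        rw [mul_assoc] at this
        omega
  · refine (q.not_hu_hv_of_no_index_two hG).2 fun i g hg ho a ha => h.fix q.orderOf_z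
      (P.isPGroup'.to_le (q.V_le i)) (fun u hu => q.Z_comm q.z_mem_Z (q.V_le i hu)) ?_ hg ho ha
    rw [← mul_inv_eq_iff_eq_mul]
    exact q.conj_eq_of_mem_normalizer_V hg _ q.z_mem_Z

theorem cit_of_odd (h : ∀ t : G, orderOf t = 2 → ∀ g : G, g * t = t * g → Odd (orderOf g) → g = 1) :
    H32.CIT G := by
  intro t ht g
  obtain ⟨k, m, hm, e⟩ := Nat.exists_eq_two_pow_mul_odd (orderOf_pos (g : G)).ne'
  refine ⟨k, Subtype.ext (h t ht _ (mem_centralizer_singleton_iff.1 (g ^ 2 ^ k).2) ?_)⟩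
  refine hm.of_dvd_nat (orderOf_dvd_of_pow_eq_one ?_)
  rw [coe_pow, ← pow_mul, ← e, pow_orderOf_eq_one]

theorem IGrp.cit_of_se [IsSimpleGroup G] (h : IGrp G) (hna : ∃ a b : G, a * b ≠ b * a)
    {H : Subgroup G} (hH : IsStronglyEmbedded H) : H32.CIT G := by
  obtain ⟨t, Q, hS⟩ := H14.BSE.setup_of_simple hna hH
  haveI := H14.BSE.faithful_of_core (H14.BSE.core_of_simple hH.1)
  obtain ⟨S, hSQ⟩ := H14.BSE.exists_sylow_eq hS (H14.SuzSE.rank2_of_simple hna)
  have hQ : IsPGroup 2 Q := hSQ ▸ S.isPGroup'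
  have key : ∀ z : G, orderOf z = 2 → z • ((1 : G) : G ⧸ H) = (1 : G) → ∀ g : G, g * z = z * g →
      Odd (orderOf g) → g = 1 := by
    intro z hz hza g hg ho
    obtain ⟨z1, zz⟩ := H14.BSE.of_orderOf_two hz
    have hga := H40.RankOne.smul_eq_of_comm hS z1 zz hza hg
    have hc : ∀ x ∈ Q, g * x * g⁻¹ = x := fun x hx => h.fix hz hQ
      (fun u hu => (H40.RankOne.II_comm_Q hS ⟨hza, z1, zz⟩ hu).symm) hg
      (by rw [H14.BSE.normalizer_Q hS]; exact hga) ho hx
    refine eq_of_smul_eq_smul (α := G ⧸ H) fun b => ?_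
    rw [one_smul]
    by_cases hb : b = (1 : G)
    · rw [hb, hga]
    obtain ⟨x, hx, e⟩ := H40.RankOne.exists_Q_smul hS hb (c := g • b) fun e =>
      hb (by rw [← inv_smul_smul g b, e, inv_smul_eq_iff, hga])
    obtain ⟨k, hk⟩ := H32.pow_of_mem_pgroup hQ (inv_mem hx)
    have h1 : x⁻¹ * g ∈ MulAction.stabilizer G b := by
      rw [MulAction.mem_stabilizer_iff, mul_smul, ← e, inv_smul_smul]
    have h2 := pow_mem h1 (2 ^ k)
    rw [Commute.mul_pow (mul_inv_eq_iff_eq_mul.1 (hc _ (inv_mem hx))).symm, hk, one_mul] at h2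
    obtain ⟨m, hm⟩ := exists_pow_eq_self_of_coprime (x := g) (n := 2 ^ k)
      ((Nat.coprime_two_left.2 ho).pow_left k)
    exact hm ▸ pow_mem h2 m
  refine cit_of_odd fun z hz g hg ho => ?_
  obtain ⟨b, hb⟩ := H40.RankOne.exists_fixed_of_inv hS (H14.BSE.of_orderOf_two hz).2
  obtain ⟨c, hc⟩ := H40.RankOne.trans hS b ((1 : G) : G ⧸ H)
  have := key (c * z * c⁻¹) (by rw [← hz]; exact (MulAut.conj c).orderOf_eq z)
    (by rw [← hc, mul_smul, inv_smul_smul, mul_smul, hb]) (c * g * c⁻¹)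
    (by rw [conj_mul, conj_mul, hg]) (((MulAut.conj c).orderOf_eq g).symm ▸ ho :)
  exact conj_eq_one_iff.1 this

theorem IGrp.cit_of_rank (h : IGrp G) (hO : pPrimeCore 2 G = ⊥)
    (hG : ∀ H : Subgroup G, H.index ≠ 2) (h3 : ¬ PRankLE 2 2 G) : H32.CIT G := by
  have hL : ∀ t : G, orderOf t = 2 → pLayerOf 2 (centralizer ({t} : Set G)) = ⊥ := by
    intro t ht
    rw [H44.pLayerOf_eq_bot_iff', ← H44.isPConstrained_iff_pLayer_eq_bot]
    obtain ⟨P, N, hN, hc⟩ := h t ht
    haveI : Group.IsSolvable N := Cfsg.Agent.S0205.result (by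
      rw [← hc.index_eq_card, ← Nat.not_even_iff_odd, even_iff_two_dvd]; exact P.not_dvd_index)
    haveI : Group.IsSolvable (centralizer ({t} : Set G) ⧸ N) := by
      haveI := P.isPGroup'.isNilpotent
      exact Group.isSolvable_of_surjective (f := hc.symm.QuotientMulEquiv.symm.toMonoidHom)
        hc.symm.QuotientMulEquiv.symm.surjective
    haveI : Group.IsSolvable (centralizer ({t} : Set G)) :=
      Group.isSolvable_of_ker_le_range N.subtype (QuotientGroup.mk' N) (by simp)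
    exact H23.isPConstrained_of_isSolvable
  refine cit_of_odd fun t ht g hg ho => ?_
  have h1 := H3.CW.core_le_of_noncomponent (sft_two G) (H3.CW.seCore G) (H3.CW.ft G) hL
    (fun N _ => hG N) h3 ht
  rw [hO, le_bot_iff] at h1
  have h2 : (⟨g, mem_centralizer_singleton_iff.2 hg⟩ : centralizer ({t} : Set G)) ∈
      pPrimeCore 2 (centralizer ({t} : Set G)) := by
    refine H1.le_pPrimeCore (N := pResidual 2 _) (hN := H4.pResidual_normal _ _) ?_
      (H4.mem_pResidual_of_coprime ?_)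
    swap
    · rw [← orderOf_coe]; exact Nat.coprime_two_right.2 ho
    exact ((Nat.Prime.coprime_iff_not_dvd Nat.prime_two).2
      (H4.hasNormalPComplement_iff_not_dvd.1 (h t ht))).symm
  exact mem_bot.1 (h1 ▸ ⟨_, h2, rfl⟩)

end H72
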