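import Cfsg.Agent.Base
import Cfsg.Agent.Lib.InvChar.PGV1
import Cfsg.Agent.Lib.Odd.Fpf3
import Cfsg.Agent.Lib.Core.Coprime
import Cfsg.Agent.Lib.Core.Fitting

/-! Quadratic elements and transvections normalise components. -/

set_option autoImplicit false
set_option linter.style.haveILetI false
set_option linter.unusedSectionVars false
namespace H72.PGV
open Cfsg Subgroup H68
open scoped commutatorElement

section ring
variable {R : Type*} [Ring R]

theorem one_add_pow_of_sq {m : R} (h : m * m = 0) (k : ℕ) : (1 + m) ^ k = 1 + k * m := by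
  induction k with
  | zero => simp
  | succ k ih =>
    rw [pow_succ, ih]
    push_cast
    linear_combination (norm := noncomm_ring) (k : R) * h

theorem odd_ring {x n : R} (hn : n * n = 0)
    (h1 : x * ((1 + n) * x * (1 - n)) = ((1 + n) * x * (1 - n)) * x)
    (h2 : x * ((1 - n) * x * (1 + n)) = ((1 - n) * x * (1 + n)) * x) :
    4 * (((1 + n) * x * (1 - n) - x) * ((1 + n) * x * (1 - n) - x)) = 0 := by
  linear_combination (norm := noncomm_ring) n * (h1 - h2) + (h1 - h2) * n + 2 * (hn * x * x) +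
    2 * (x * x * hn) - 4 * (x * hn * x) + 4 * (x * hn * x * n) - 4 * (n * x * hn * x) +
    4 * (n * x * hn * x * n)

theorem transv_ring0 {e f : R} (h2 : (2 : R) = 0) (he : e * e = 0) (hf : f * f = 0)
    (h : e * f * e = 0) (h' : f * e * f = 0) : ((1 + e) * (1 + f)) ^ 4 = 1 := by
  have a1 : ∀ z, e * (e * z) = 0 := fun z => by rw [← mul_assoc, he, zero_mul]

  rw [mul_assoc] at h h'
  have : ((1 + e) * (1 + f)) ^ 4 = 1 + 2 * (2 * e + 2 * f + 5 * (e * f) + 3 * (f * e)) := by
    simp only [pow_succ, pow_zero, mul_add, add_mul, mul_one, one_mul, mul_assoc, a1, he, hf,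
      h, h', mul_zero, add_zero]
    noncomm_ring
  rw [this, h2, zero_mul, add_zero]

theorem transv_ring1 {e f : R} (h2 : (2 : R) = 0) (he : e * e = 0) (hf : f * f = 0)
    (h : e * f * e = e) (h' : f * e * f = f) : ((1 + e) * (1 + f)) ^ 3 = 1 := by
  have a1 : ∀ z, e * (e * z) = 0 := fun z => by rw [← mul_assoc, he, zero_mul]

  rw [mul_assoc] at h h'
  have : ((1 + e) * (1 + f)) ^ 3 = 1 + 2 * (4 * e + 4 * f + 6 * (e * f) + 2 * (f * e)) := by
    simp only [pow_succ, pow_zero, mul_add, add_mul, mul_one, one_mul, mul_assoc, a1, he, hf,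
      h, h', mul_zero, add_zero]
    noncomm_ring
  rw [this, h2, zero_mul, add_zero]

theorem transv_ring {e f : R} (h2 : (2 : R) = 0) (he : e * e = 0) (hf : f * f = 0)
    (h : e * f * e = 0 ∨ e * f * e = e) (h' : f * e * f = 0 ∨ f * e * f = f) :
    ((1 + e) * (1 + f)) ^ 12 = 1 := by
  have k0 : e * f * e = 0 → f * e * f = 0 → ((1 + e) * (1 + f)) ^ 12 = 1 := fun a b => by
    rw [show 12 = 4 * 3 from rfl, pow_mul, transv_ring0 h2 he hf a b, one_pow]
  rcases h with h | h <;> rcases h' with h' | h'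
  · exact k0 h h'
  · have : f = 0 := by linear_combination (norm := noncomm_ring) f * h * f - h' - f * e * h'
    exact k0 h (by rw [this, mul_zero])
  · have : e = 0 := by linear_combination (norm := noncomm_ring) e * h' * e - h - e * f * h
    exact k0 (by rw [this, mul_zero]) h'
  · rw [show 12 = 3 * 4 from rfl, pow_mul, transv_ring1 h2 he hf h h', one_pow]

end ring

variable {G R : Type*} [Group G] [Finite G] [Ring R] {φ : G →* R} {K A : Subgroup G} {p : ℕ}

theorem cent_of_ne {K L : Subgroup G} (hK : IsComponent K) (hL : IsComponent L) (h : L ≠ K) :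
    L ≤ centralizer (K : Set G) :=
  commutator_eq_bot_iff_le_centralizer.1 (H23.IsComponent.commutator_eq_bot_of_ne hL hK h)

theorem comm_cj (hK : IsComponent K) {c : G} (hc : cj c K ≠ K) {x y : G} (hx : x ∈ K) (hy : y ∈ K) :
    y * (c * x * c⁻¹) = c * x * c⁻¹ * y :=
  cent_of_ne hK (H23.IsComponent.map_conj hK c) hc (conj_mem_cj.2 hx) y hy

theorem pow_eq_one_of_sq (hφ : Function.Injective φ) (hp : (p : R) = 0) {g : G}
    (h : g ∈ Ann φ g) : g ^ p = 1 := by
  apply hφ
  rw [map_pow, map_one, ← add_sub_cancel 1 (φ g), one_add_pow_of_sq (mem_Ann.1 h), hp, zero_mul,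
    add_zero]

theorem false_of_exponent (hK : IsComponent K) {c : G} (hc : cj c K ≠ K) {q r N : ℕ} (hq : q.Prime)
    (hr : r.Prime) (hN : ∀ l : ℕ, l.Prime → l ∣ N → l = q ∨ l = r)
    (h : ∀ x ∈ K, (c * x * c⁻¹ * x⁻¹) ^ N = 1) : False := by
  refine H23.IsQuasisimple.not_isSolvable hK.2 (H1.isSolvable_of_normal_of_quotient (center K)
    (H2.isSolvable_of_isMulCommutative inferInstance) (H8.isSolvable_of_two_primes hq hr fun l hl hd => ?_))
  haveI := Fact.mk hl
  obtain ⟨y, hy⟩ := exists_prime_orderOf_dvd_card' l hd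
  obtain ⟨x, rfl⟩ := QuotientGroup.mk_surjective y
  refine hN l hl (hy ▸ orderOf_dvd_of_pow_eq_one ?_)
  rw [← QuotientGroup.mk_pow, QuotientGroup.eq_one_iff, mem_center_iff]
  intro k
  have h1 : Commute (c * x * c⁻¹) (x : G)⁻¹ := (comm_cj hK hc x.2 (inv_mem x.2)).symm
  have h2 := h x x.2
  rw [h1.mul_pow, inv_pow, mul_inv_eq_one] at h2
  have h3 : Commute (k : G) (c * x * c⁻¹) := comm_cj hK hc x.2 k.2
  have h4 := h3.pow_right N
  rw [h2] at h4
  exact Subtype.ext h4

theorem map_inv_of_quad {b : G} (h : b ∈ Ann φ b) : φ b⁻¹ = 1 - (φ b - 1) := by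
  have := mem_Ann.1 h
  calc φ b⁻¹ = φ b⁻¹ * (φ b * (1 - (φ b - 1))) := by
        rw [show φ b * (1 - (φ b - 1)) = 1 by linear_combination (norm := noncomm_ring) -this, mul_one]
    _ = _ := by rw [← mul_assoc, map_inv_mul, one_mul]

/-- In odd characteristic quadratic elements normalise components. -/
theorem mem_normalizer_of_quad (hφ : Function.Injective φ) (hp : p.Prime) (h2 : p ≠ 2)
    (hR : (p : R) = 0) (hK : IsComponent K) {b : G} (h : b ∈ Ann φ b) :
    b ∈ normalizer (K : Set G) := by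
  by_contra hn
  have hc : cj b K ≠ K := fun e => hn (mem_normalizer_iff_cj.2 e)
  have hc' : cj b⁻¹ K ≠ K := fun e => hn (inv_mem_iff.1 (mem_normalizer_iff_cj.2 e))
  refine false_of_exponent hK hc hp hp (N := p)
    (fun l hl hd => Or.inl ((Nat.prime_dvd_prime_iff_eq hl hp).1 hd)) fun x hx => ?_
  have e1 := congrArg φ (comm_cj hK hc hx hx)
  have e2 := congrArg φ (comm_cj hK hc' hx hx)
  simp only [map_mul, inv_inv] at e1 e2
  have hb : φ b = 1 + (φ b - 1) := by abel
  rw [map_inv_of_quad h] at e1 e2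
  rw [hb] at e1 e2
  simp only [add_sub_cancel_left] at e1 e2
  have e3 := odd_ring (mem_Ann.1 h) e1 e2
  rw [← map_inv_of_quad h, ← hb, ← map_mul, ← map_mul] at e3
  obtain ⟨k, hk⟩ := hp.odd_of_ne_two h2
  have e4 : ((k : R) + 1) * 2 = 1 := by
    rw [hk] at hR
    push_cast at hR
    linear_combination (norm := noncomm_ring) hR
  have e5 : (φ (b * x * b⁻¹) - φ x) * (φ (b * x * b⁻¹) - φ x) = 0 := by
    have : ((k : R) + 1) * (((k : R) + 1) * 4) = 1 := by
      rw [show (4 : R) = 2 * 2 by norm_num, ← mul_assoc ((k : R) + 1) 2, e4, one_mul, e4]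
    rw [← one_mul (_ * _), ← this, mul_assoc, mul_assoc, e3, mul_zero, mul_zero]
  refine pow_eq_one_of_sq hφ hR (mem_Ann.2 ?_)
  have e6 : φ (b * x * b⁻¹ * x⁻¹) - 1 = (φ (b * x * b⁻¹) - φ x) * φ x⁻¹ := by
    rw [sub_mul, map_mul_inv, map_mul _ _ x⁻¹]
  have e7 : φ x⁻¹ * (φ (b * x * b⁻¹) - φ x) = (φ (b * x * b⁻¹) - φ x) * φ x⁻¹ := by
    rw [mul_sub, sub_mul, map_mul_inv, map_inv_mul, ← map_mul, comm_cj hK hc hx (inv_mem hx), map_mul _ _ x⁻¹]
  rw [e6, mul_assoc, ← mul_assoc (φ x⁻¹), e7, ← mul_assoc, ← mul_assoc, e5, zero_mul, zero_mul]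

theorem sq_zero_of_sq (h2 : (2 : R) = 0) {a : G} (ha : a * a = 1) : (φ a - 1) * (φ a - 1) = 0 := by
  have := congrArg φ ha
  rw [map_mul, map_one] at this
  rw [← one_add_one_eq_two] at h2
  linear_combination (norm := noncomm_ring) this + h2 - h2 * φ a

/-- Transvections normalise components. -/
theorem mem_normalizer_of_transv (hφ : Function.Injective φ) (h2 : (2 : R) = 0) (hK : IsComponent K)
    {a : G} (ha : a * a = 1)
    (h : ∀ l : R, (φ a - 1) * l * (φ a - 1) = 0 ∨ (φ a - 1) * l * (φ a - 1) = φ a - 1) :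
    a ∈ normalizer (K : Set G) := by
  by_contra hn
  refine false_of_exponent hK (fun e => hn (mem_normalizer_iff_cj.2 e)) Nat.prime_two Nat.prime_three
    (N := 12) (fun l hl hd => ?_) fun x _ => hφ ?_
  · rcases (Nat.Prime.dvd_mul hl (m := 2 ^ 2) (n := 3)).1 hd with h | h
    · exact Or.inl ((Nat.prime_dvd_prime_iff_eq hl Nat.prime_two).1 (hl.dvd_of_dvd_pow h))
    · exact Or.inr ((Nat.prime_dvd_prime_iff_eq hl Nat.prime_three).1 h)
  have e : φ (a * x * a⁻¹ * x⁻¹) = (1 + (φ a - 1)) * (1 + (φ (x * a * x⁻¹) - 1)) := by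
    rw [add_sub_cancel, add_sub_cancel, ← map_mul, inv_eq_of_mul_eq_one_left ha]
    simp only [mul_assoc]
  rw [map_pow, map_one, e]
  refine transv_ring h2 (sq_zero_of_sq h2 ha) (sq_zero_of_sq h2 (by
    calc _ = x * (a * a) * x⁻¹ := by group
      _ = 1 := by rw [ha]; group)) (h _) ?_
  rw [D_conj]
  have e2 : φ x * (φ a - 1) * φ x⁻¹ * (φ a - 1) * (φ x * (φ a - 1) * φ x⁻¹) =
      φ x * ((φ a - 1) * (φ x⁻¹ * (φ a - 1) * φ x) * (φ a - 1)) * φ x⁻¹ := by simp only [mul_assoc]
  rw [e2]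
  rcases h (φ x⁻¹ * (φ a - 1) * φ x) with h | h
  · rw [h]; simp
  · rw [h]; simp

/-- An element of prime order normalising a component with `p'`-centre fixes a non-central element. -/
theorem exists_fixed (hp : p.Prime) (hK : IsComponent K)
    (hZ : ∀ z ∈ K, z ∈ centralizer (K : Set G) → z ^ p = 1 → z = 1) {b : G} (hb : b ^ p = 1)
    (hn : b ∈ normalizer (K : Set G)) :
    ∃ x ∈ K, x ∉ centralizer (K : Set G) ∧ b * x = x * b := by
  by_contra hno
  push Not at hno
  haveI := Fact.mk hp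
  let f := K.normalizerMonoidHom
  let K' := K.subgroupOf (normalizer (K : Set G))
  have hker : ∀ x : normalizer (K : Set G), x ∈ f.ker ↔ (x : G) ∈ centralizer (K : Set G) := fun x => by
    rw [normalizerMonoidHom_ker, mem_subgroupOf]
  have hK' : IsQuasisimple K' := (H23.isQuasisimple_subgroupOf_iff le_normalizer).2 hK.2
  have hne : K'.map f ≠ ⊥ := fun e => H23.IsComponent.not_le_centralizer hK fun x hx =>
    (hker ⟨x, le_normalizer hx⟩).1 ((Subgroup.map_eq_bot_iff _).1 e hx)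
  have hcop : (Nat.card (zpowers (⟨b, hn⟩ : normalizer (K : Set G)))).Coprime
      (Nat.card ↥(K' ⊓ f.ker)) := by
    refine Nat.Coprime.coprime_dvd_left (k := p) ?_ ((Nat.Prime.coprime_iff_not_dvd hp).2 fun hd => ?_)
    · rw [Nat.card_zpowers]
      exact orderOf_dvd_of_pow_eq_one (Subtype.ext hb)
    · obtain ⟨z, hz⟩ := exists_prime_orderOf_dvd_card' p hd
      have h1 := hZ z.1.1 z.2.1 ((hker _).1 z.2.2) (by
        rw [← hz, ← orderOf_coe, ← orderOf_coe, pow_orderOf_eq_one])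
      rw [show z = 1 from Subtype.ext (Subtype.ext h1), orderOf_one] at hz
      exact hp.one_lt.ne hz
  have key := H2.map_inf_centralizer (K := K') le_normalizer_of_normal f hcop
    (Or.inl (H2.isSolvable_zpowers _))
  have hnil := H53.Odd.fpf_nilpotent (K := K'.map f) (y := f ⟨b, hn⟩) hp
    (by rw [← map_pow, show (⟨b, hn⟩ : normalizer (K : Set G)) ^ p = 1 from Subtype.ext hb, map_one])
    (by
      rintro _ ⟨k, hk, rfl⟩
      exact ⟨_, Normal.conj_mem inferInstance k hk ⟨b, hn⟩, by simp⟩)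
    fun k hk e => by
      have : k ∈ (K' ⊓ centralizer (zpowers (⟨b, hn⟩ : normalizer (K : Set G)) : Set _)).map f := by
        rw [key, MonoidHom.map_zpowers]
        refine ⟨hk, ?_⟩
        rintro _ ⟨n, rfl⟩
        exact (Commute.zpow_left e n)
      obtain ⟨x, ⟨h1, h2⟩, rfl⟩ := this
      by_contra h3
      exact hno x h1 (fun h4 => h3 ((hker x).2 h4))
        (congrArg Subtype.val (h2 ⟨b, hn⟩ (mem_zpowers _)))
  exact H23.IsQuasisimple.not_isSolvable (H23.IsQuasisimple.map hK' f hne) inferInstance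

end H72.PGV
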