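import Cfsg.Agent.Base
import Cfsg.Agent.Lib.InvChar.PGV2

/-! The permutation action of a quadratic group on the conjugates of a component. -/

set_option autoImplicit false
set_option linter.style.haveILetI false
set_option linter.unusedSectionVars false
namespace H72.PGV
open Cfsg Subgroup H68
open scoped commutatorElement

variable {G R : Type*} [Group G] [Finite G] [Ring R] {φ : G →* R} {K A : Subgroup G} {p : ℕ}

/-- The reduced configuration. -/
structure Cfg (φ : G →* R) (p : ℕ) (K A : Subgroup G) : Prop where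
  prime : p.Prime
  inj : Function.Injective φ
  char : (p : R) = 0
  comp : IsComponent K
  comm : ∀ a ∈ A, ∀ a' ∈ A, a * a' = a' * a
  pow : ∀ a ∈ A, a ^ p = 1
  h1 : ∀ y : G, y ^ p = 1 → y ∈ centralizer (A : Set G) → y ∈ centralizer (K : Set G) → y = 1
  h2 : ∀ z ∈ K, z ∈ centralizer (K : Set G) → z ^ p = 1 → z = 1

theorem Cfg.not_cent (h : Cfg φ p K A) {a c : G} (ha : a ∈ A) (h1 : a ≠ 1) (hc : c ∈ A) :
    a ∉ centralizer (cj c K : Set G) := fun hn => by
  rw [← cj_centralizer, mem_cj, mul_assoc, h.comm a ha c hc, inv_mul_cancel_left] at hn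
  exact h1 (h.h1 a (h.pow a ha) (fun x hx => h.comm x hx a ha) hn)

theorem Cfg.not_cent' (h : Cfg φ p K A) {a : G} (ha : a ∈ A) (h1 : a ≠ 1) :
    a ∉ centralizer (K : Set G) := fun hn =>
  h1 (h.h1 a (h.pow a ha) (fun x hx => h.comm x hx a ha) hn)

theorem not_cent_mul (hK : IsComponent K) {c : G} (hc : cj c K ≠ K) {x y : G}
    (hx : x ∉ centralizer (K : Set G)) (hy : y ∈ K) : x * (c * y * c⁻¹) ∉ centralizer (K : Set G) :=
  fun hn => hx ((mul_mem_cancel_right
    (cent_of_ne hK (H23.IsComponent.map_conj hK c) hc (conj_mem_cj.2 hy))).1 hn)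

/-- An element `u` of `K K'` outside `C(K)` whose annihilator contains an element moving `L`. -/
theorem orth_of_elt (hK : IsComponent K) {L : Subgroup G} (hL : IsComponent L) (hne : L ≠ K) {u b : G}
    (hu : u ∈ centralizer (L : Set G)) (hu' : u ∉ centralizer (K : Set G)) (hb : b ∈ Ann φ u)
    (hb' : b ∉ centralizer (L : Set G)) : Orth φ L K :=
  orth_of hK (cent_of_ne hL hK hne.symm)
    (fun k hk => Ann_symm (hu k hk).symm (comp_le_Ann hL hu hb hb' hk)) hu'

theorem Cfg.three (h : Cfg φ p K A) {b c c' : G} (hb : b ∈ A) (hbN : b ∈ normalizer (K : Set G))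
    (hb1 : b ≠ 1) (hc : c ∈ A) (hc' : c' ∈ A) (hcb : c ∈ Ann φ b) (hcb' : c' ∈ Ann φ b)
    (h1 : cj c K ≠ K) (h2 : cj c' K ≠ K) (h3 : cj c' K ≠ cj c K) : False := by
  obtain ⟨x, hx, hx', e⟩ := exists_fixed h.prime h.comp h.h2 (h.pow b hb) hbN
  have hK' := H23.IsComponent.map_conj h.comp c
  have hK'' := H23.IsComponent.map_conj h.comp c'
  have hu : x * (c * x⁻¹ * c⁻¹) ∈ Ann φ b := by
    have := mul_mem (conj_mem_Ann' hcb e.symm) (inv_mem hcb)
    simpa only [mul_assoc] using this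
  have c1 : Commute b x := e
  have c2 : Commute b c := h.comm b hb c hc
  have hO : Orth φ (cj c' K) K := orth_of_elt h.comp hK'' h2
    (mul_mem (cent_of_ne hK'' h.comp h2.symm hx)
      (cent_of_ne hK'' hK' h3.symm (conj_mem_cj.2 (inv_mem hx))))
    (not_cent_mul h.comp h1 hx' (inv_mem hx))
    (Ann_symm (c1.mul_right ((c2.mul_right c1.inv_right).mul_right c2.inv_right)) hu)
    (h.not_cent hb hb1 hc')
  refine h.not_cent' hb hb1 (mem_centralizer_of_triple h.inj h.comp hbN fun y hy z hz => ?_)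
  have e1 : φ c' * (φ b - 1) = φ b - 1 := hcb'
  have e2 := mem_Ann.1 (hO _ (conj_mem_cj.2 hz) hy)
  have e3 := mem_Ann.1 (hO _ (conj_mem_cj.2 (conj_mem_of_mem_normalizer hbN hz)) hy)
  have e4 : φ c' * (φ z - 1) = (φ (c' * z * c'⁻¹) - 1) * φ c' := by
    rw [D_conj, mul_assoc, map_inv_mul, mul_one]
  have e5 : φ c' * φ b * (φ z - 1) = (φ (c' * (b * z * b⁻¹) * c'⁻¹) - 1) * (φ c' * φ b) := by
    rw [D_conj, D_conj]
    simp only [mul_assoc]
    rw [← mul_assoc (φ c'⁻¹), map_inv_mul, one_mul, map_inv_mul, mul_one]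
  linear_combination (norm := noncomm_ring) (φ y - 1) * e5 - (φ y - 1) * e4 + e3 * (φ c' * φ b) -
    e2 * φ c' - (φ y - 1) * e1 * (φ z - 1)

/-- The diagonal embedding of `K` in `K K^c`. -/
def dl (hK : IsComponent K) {c : G} (hc : cj c K ≠ K) : K →* G :=
  MonoidHom.mk' (fun x => x * (c * x * c⁻¹)) fun x y => by
    calc _ = x * (y * (c * x * c⁻¹)) * (c * y * c⁻¹) := by simp [mul_assoc]
      _ = _ := by rw [comm_cj hK hc x.2 y.2]; simp only [mul_assoc]

theorem dl_apply (hK : IsComponent K) {c : G} (hc : cj c K ≠ K) (x : K) :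
    dl hK hc x = x * (c * x * c⁻¹) := rfl

theorem dl_comm (hK : IsComponent K) {c : G} (hc : cj c K ≠ K) (h2 : c * c = 1) (x : K) :
    c * dl hK hc x = dl hK hc x * c := by
  rw [dl_apply]
  conv_lhs => rw [comm_cj hK hc x.2 x.2]
  calc _ = (c * c) * x * c⁻¹ * x := by group
    _ = x * (c * x * c⁻¹) * c := by rw [h2, inv_eq_of_mul_eq_one_left h2]; simp [mul_assoc, h2]

theorem dl_conj (hK : IsComponent K) {c : G} (hc : cj c K ≠ K) {a : G}
    (ha : a ∈ normalizer (K : Set G)) (e : a * c = c * a) (x : K) :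
    a * dl hK hc x * a⁻¹ = dl hK hc ⟨a * x * a⁻¹, conj_mem_of_mem_normalizer ha x.2⟩ := by
  simp only [dl_apply]
  calc _ = a * x * a⁻¹ * ((a * c) * x * (a * c)⁻¹) := by group
    _ = _ := by rw [e]; group

theorem dl_cent (hK : IsComponent K) {c : G} (hc : cj c K ≠ K) {L : Subgroup G} (hL : IsComponent L)
    (h1 : L ≠ K) (h2 : L ≠ cj c K) (x : K) : dl hK hc x ∈ centralizer (L : Set G) :=
  mul_mem (cent_of_ne hL hK h1.symm x.2)
    (cent_of_ne hL (H23.IsComponent.map_conj hK c) h2.symm (conj_mem_cj.2 x.2))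

theorem dl_conj_K (hK : IsComponent K) {c : G} (hc : cj c K ≠ K) (x : K) {y : G} (hy : y ∈ K) :
    dl hK hc x * y * (dl hK hc x)⁻¹ = x * y * (x : G)⁻¹ := by
  rw [dl_apply, mul_assoc (x : G), ← comm_cj hK hc x.2 hy]
  group

theorem exists_not_cent (hK : IsComponent K) : ∃ x : K, (x : G) ∉ centralizer (K : Set G) := by
  by_contra hn
  push Not at hn
  exact H23.IsComponent.not_le_centralizer hK fun x hx => hn ⟨x, hx⟩

theorem false_of_star_orth (hφ : Function.Injective φ) (hK : IsComponent K) {c : G} (hc : cj c K ≠ K)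
    (hs : ∀ x, dl hK hc x ∈ Ann φ c) (hO : Orth φ (cj c K) K) : False := by
  have hO' := hO.symm (cent_of_ne (H23.IsComponent.map_conj hK c) hK hc.symm)
  refine H23.IsComponent.ne_bot hK (eq_bot_of_triple hφ (H23.IsComponent.commutator_self hK)
    fun y hy x hx k hk => ?_)
  have e1 := mem_Ann.1 (hs ⟨x, hx⟩)
  rw [dl_apply, map_mul] at e1
  have e2 : φ c * (φ k - 1) = (φ (c * k * c⁻¹) - 1) * φ c := by
    rw [D_conj, mul_assoc, map_inv_mul, mul_one]
  have e3 := mem_Ann.1 (hO' k hk (conj_mem_cj.2 hx))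
  have e4 := mem_Ann.1 (hO _ (conj_mem_cj.2 hk) hx)
  have e5 := mem_Ann.1 (hO _ (conj_mem_cj.2 hx) hy)
  have e6 := congrArg φ (comm_cj hK hc hx hx)
  rw [map_mul, map_mul _ _ x] at e6
  set X := φ x
  set X' := φ (c * x * c⁻¹)
  set k' := φ (c * k * c⁻¹)
  linear_combination (norm := noncomm_ring) -(φ y - 1) * e1 * (φ k - 1) + (φ y - 1) * (X * X' - 1) * e2 -
    (φ y - 1) * X * e3 + (φ y - 1) * e6 * (k' - 1) * φ c + (φ y - 1) * X' * e4 * φ c +
    e5 * (k' - 1) * φ c

theorem star_of_four (hK : IsComponent K) {b b' : G} (hb : cj b K ≠ K) (h2 : b * b = 1)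
    (hb' : b' ∈ Ann φ b) (ec : b * b' = b' * b) (h1 : cj b' K ≠ K) (h3 : cj b' K ≠ cj b K)
    (x : K) : dl hK hb x ∈ Ann φ b := by
  have h4 : cj b' (cj b K) ≠ K := fun e => h3 (cj_injective b (by
    rw [← cj_mul, ec, cj_mul, e, ← cj_mul, h2, cj_one]))
  have hK' := H23.IsComponent.map_conj hK b
  have hp : _root_.commutator K = ⊤ := hK.2.1.commutator_eq_top
  have : _root_.commutator K ≤ (Ann φ b).comap (dl hK hb) := by
    rw [_root_.commutator, commutator_le]
    intro y _ x _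
    have c1 : ∀ y, dl hK hb y * (b' * dl hK hb x⁻¹ * b'⁻¹) = b' * dl hK hb x⁻¹ * b'⁻¹ * dl hK hb y :=
      fun y => by
        have e : b' * dl hK hb x⁻¹ * b'⁻¹ = (b' * (x⁻¹ : K) * b'⁻¹) *
            (b' * (b * (x⁻¹ : K) * b⁻¹) * b'⁻¹) := by rw [dl_apply]; group
        have d1 : Commute (b' * (x⁻¹ : K) * b'⁻¹) (dl hK hb y) :=
          dl_cent hK hb (H23.IsComponent.map_conj hK b') h1 h3 y _ (conj_mem_cj.2 x⁻¹.2)
        have d2 : Commute (b' * (b * (x⁻¹ : K) * b⁻¹) * b'⁻¹) (dl hK hb y) :=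
          dl_cent hK hb (H23.IsComponent.map_conj hK' b') h4
            (fun e => h1 (cj_injective b (by
              rw [← cj_mul, ec, cj_mul]; exact e))) y _ (conj_mem_cj.2 (conj_mem_cj.2 x⁻¹.2))
        rw [e]
        exact (d1.mul_left d2).symm
    have m1 := mul_mem (conj_mem_Ann' hb' (dl_comm hK hb h2 x).symm) (inv_mem hb')
    have m2 := mul_mem (conj_mem_Ann' m1 (dl_comm hK hb h2 y).symm) (inv_mem m1)
    rw [mem_comap, map_commutatorElement, commutatorElement_def]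
    convert m2 using 1
    rw [mul_assoc (dl hK hb x), mul_assoc (dl hK hb x), ← map_inv _ x]
    calc _ = dl hK hb y * dl hK hb x * ((dl hK hb y)⁻¹ * (b' * dl hK hb x⁻¹ * b'⁻¹)) *
          (dl hK hb x * (b' * dl hK hb x⁻¹ * b'⁻¹))⁻¹ := by rw [map_inv]; group
      _ = _ := by rw [← map_inv _ y, c1]; simp only [mul_assoc]
  exact this (hp ▸ mem_top x)

theorem Cfg.sq (h : Cfg φ 2 K A) {a : G} (ha : a ∈ A) : a * a = 1 := by rw [← pow_two, h.pow a ha]

theorem Cfg.four (h : Cfg φ 2 K A) {b b' : G} (hb : b ∈ A) (hb' : b' ∈ A) (m1 : b' ∈ Ann φ b)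
    (h1 : cj b K ≠ K) (h2 : cj b' K ≠ K) (h3 : cj b' K ≠ cj b K) : False := by
  have e := h.comm b hb b' hb'
  obtain ⟨x, hx⟩ := exists_not_cent h.comp
  have hK' := H23.IsComponent.map_conj h.comp b'
  exact false_of_star_orth h.inj h.comp h2
    (star_of_four h.comp h2 (h.sq hb') (Ann_symm e m1) e.symm h1 h3.symm)
    (orth_of_elt h.comp hK' h2 (dl_cent h.comp h1 hK' h2 h3 x) (not_cent_mul h.comp h1 hx x.2)
      (Ann_symm (dl_comm h.comp h1 (h.sq hb) x) (star_of_four h.comp h1 (h.sq hb) m1 e h2 h3 x))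
      (h.not_cent hb (fun e => h1 (by rw [e, cj_one])) hb'))

theorem mem_cent_of_comm (hK : IsComponent K) {b : G} (hb : b ∈ normalizer (K : Set G))
    (h : ∀ x ∈ K, ⁅b, x⁆ ∈ centralizer (K : Set G)) : b ∈ centralizer (K : Set G) := by
  have h1 := H2.commutator_closure_le (s := {b}) (H := K) (N := centralizer (K : Set G))
    (by rintro _ rfl; exact normalizer_le_normalizer_centralizer K hb) (by rintro _ rfl; exact h)
  exact commutator_eq_bot_iff_le_centralizer.1 (H23.commutator_eq_bot_of_perfect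
    (H23.IsComponent.commutator_self hK) (commutator_eq_bot_iff_le_centralizer.2 h1))
    (subset_closure rfl)

theorem Cfg.star (h : Cfg φ 2 K A) {b c : G} (hb : b ∈ A) (hbN : b ∈ normalizer (K : Set G))
    (hb1 : b ≠ 1) (hc : c ∈ A) (hne : cj c K ≠ K) (m : b ∈ Ann φ c) (x : K) :
    dl h.comp hne x ∈ Ann φ c := by
  haveI : ((Ann φ c).comap (dl h.comp hne)).Normal := ⟨fun y hy g => by
    rw [mem_comap, map_mul, map_mul, map_inv]
    exact conj_mem_Ann' hy (dl_comm h.comp hne (h.sq hc) g).symm⟩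
  rcases H23.IsQuasisimple.normal_eq_top_or_le_center h.comp.2 ((Ann φ c).comap (dl h.comp hne))
    with e | e
  · exact (e.ge (mem_top x) :)
  refine absurd (mem_cent_of_comm h.comp hbN fun y hy => ?_) (h.not_cent' hb hb1)
  have : (⟨b * y * b⁻¹, conj_mem_of_mem_normalizer hbN hy⟩ * (⟨y, hy⟩ : K)⁻¹) ∈ center K := by
    refine e ?_
    rw [mem_comap, map_mul, ← dl_conj h.comp hne hbN (h.comm b hb c hc) ⟨y, hy⟩, map_inv]
    have := mul_mem m (conj_mem_Ann' (inv_mem m) (dl_comm h.comp hne (h.sq hc) ⟨y, hy⟩).symm)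
    simpa only [mul_assoc] using this
  exact fun k hk => congrArg Subtype.val (mem_center_iff.1 this ⟨k, hk⟩)

end H72.PGV
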