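import Cfsg.Agent.Base
import Cfsg.Agent.Lib.InvChar.PGV3
import Cfsg.Agent.Lib.InvChar.AbSylow
import Cfsg.Agent.Lib.InvChar.Comp1
import Cfsg.Agent.Lib.InvChar.SylowIn
import Cfsg.Agent.Lib.Invol.Dihedral

/-! Two components interchanged by a quadratic group in characteristic two. -/

set_option autoImplicit false
set_option linter.style.haveILetI false
set_option linter.unusedSectionVars false
namespace H72.PGV
open Cfsg Subgroup H68
open scoped commutatorElement

variable {G R : Type*} [Group G] [Finite G] [Ring R] {φ : G →* R} {K A : Subgroup G} {c : G}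

/-- In a group with abelian centralisers: a subgroup containing `C(s₁)` and `s₁^s` contains `C(s)`. -/
theorem le_of_CA {X : Type*} [Group X] [Finite X]
    (hCA : ∀ x : X, x ≠ 1 → ∀ y y', Commute y x → Commute y' x → Commute y y') {H : Subgroup X}
    {s t : X} (hs : s * s = 1) (hs1 : s ≠ 1) (ht : t * t = 1)
    (hH : ∀ m, Commute m t → m ∈ H) (h : s⁻¹ * t * s ∈ H) {m : X} (hm : Commute m s) : m ∈ H := by
  by_cases hc : Commute t s
  · exact hH m (hCA s hs1 m t hm hc)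
  have ho : Odd (orderOf (t * s)) := by
    by_contra he
    rw [Nat.not_odd_iff_even] at he
    have h1 := H9.pow_half_commute ht hs he
    exact hc (hCA _ (H9.ne_one_of_orderOf_two (H9.orderOf_pow_half he)) t s h1.1.symm h1.2.symm)
  have htH := hH t (Commute.refl t)
  have hr : t * s ∈ H := by
    obtain ⟨k, hk⟩ := ho
    have h2 : t * s * (t * s) ∈ H := by
      have := mul_mem htH h
      rwa [inv_eq_of_mul_eq_one_left hs, mul_assoc s, ← mul_assoc] at this
    have : t * s = (t * s * (t * s)) ^ (k + 1) := by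
      rw [← pow_two, ← pow_mul, show 2 * (k + 1) = orderOf (t * s) + 1 by omega, pow_succ,
        pow_orderOf_eq_one, one_mul]
    rw [this]
    exact pow_mem h2 _
  obtain ⟨k, hk⟩ := H9.exists_pow_conj_of_odd ht hs ho
  have hk' := pow_mem hr k
  generalize (t * s) ^ k = r at hk hk'
  subst hk
  have := hH (r⁻¹ * m * r) (by
    change _ = _
    calc _ = r⁻¹ * (m * (r * t * r⁻¹)) * r := by group
      _ = _ := by rw [hm]; group)
  simpa [mul_assoc] using mul_mem (mul_mem hk' this) (inv_mem hk')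

/-- Two components interchanged by `A`. -/
structure Two (φ : G →* R) (K A : Subgroup G) (c : G) : Prop extends Cfg φ 2 K A where
  mem : c ∈ A
  ne : cj c K ≠ K
  two : ∀ a ∈ A, cj a K = K ∨ cj a K = cj c K
  star : ∀ c' ∈ A, ∀ h' : cj c' K ≠ K, ∀ x, dl comp h' x ∈ Ann φ c'

namespace Two

variable (h : Two φ K A c)
include h

/-- the diagonal embedding -/
abbrev d : K →* G := dl h.comp h.ne

theorem c_comm (x : K) : c * h.d x = h.d x * c := dl_comm h.comp h.ne (h.toCfg.sq h.mem) x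

theorem c_mem (x : K) : c ∈ Ann φ (h.d x) := Ann_symm (h.c_comm x) (h.star c h.mem h.ne x)

theorem comp' : IsComponent (cj c K) := H23.IsComponent.map_conj h.comp c

theorem d_not_cent {x : K} (hx : (x : G) ∉ centralizer (K : Set G)) :
    h.d x ∉ centralizer (cj c K : Set G) := fun hn => by
  rw [dl_apply, mul_mem_cancel_left (cent_of_ne h.comp' h.comp h.ne.symm x.2), ← cj_centralizer,
    conj_mem_cj] at hn
  exact hx hn

theorem d_comm {x : K} {w : G} (hw : w ∈ K) (e : w * x = x * w) : w * h.d x = h.d x * w :=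
  Commute.mul_right e (comm_cj h.comp h.ne x.2 hw)

theorem key {x : K} (hx : (x : G) ∉ centralizer (K : Set G)) {w : G} (hw : w ∈ K)
    (e : w * x = x * w) (m : w ∈ Ann φ (h.d x)) : w ∈ centralizer (K : Set G) := by
  by_contra hn
  exact false_of_star_orth h.inj h.comp h.ne (h.star c h.mem h.ne)
    (orth_of_elt h.comp h.comp' h.ne (cent_of_ne h.comp' h.comp h.ne.symm hw) hn
      (Ann_symm (h.d_comm hw e).symm m) (h.d_not_cent hx))

theorem comm_mem {x : K} {y : G} (hy : y ∈ K) (e : y * x = x * y) :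
    y * (c * y⁻¹ * c⁻¹) ∈ Ann φ (h.d x) := by
  have := mul_mem (conj_mem_Ann' (h.c_mem x) (h.d_comm hy e)) (inv_mem (h.c_mem x))
  simpa only [mul_assoc] using this

theorem eq_one {z : G} (hz : z ∈ K) (hz' : z ∈ centralizer (K : Set G)) : z = 1 := by
  have ho : Odd (orderOf z) := by
    by_contra he
    rw [Nat.not_odd_iff_even] at he
    have h1 := H9.orderOf_pow_half he
    exact H9.ne_one_of_orderOf_two h1 (h.h2 _ (pow_mem hz _) (pow_mem hz' _)
      (by rw [pow_two]; exact H9.mul_self_of_orderOf_two h1))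
  obtain ⟨x, hx⟩ := exists_not_cent h.comp
  have hzc : c * z⁻¹ * c⁻¹ ∈ cj c K := conj_mem_cj.2 (inv_mem hz)
  have u1 : z * (c * z⁻¹ * c⁻¹) ∈ centralizer (K : Set G) :=
    mul_mem hz' (cent_of_ne h.comp h.comp' h.ne hzc)
  have u2 : z * (c * z⁻¹ * c⁻¹) ∈ centralizer (cj c K : Set G) :=
    mul_mem (cent_of_ne h.comp' h.comp h.ne.symm hz)
      (by rw [← cj_centralizer]; exact conj_mem_cj.2 (inv_mem hz'))
  have u3 : h.d x ∈ Ann φ (z * (c * z⁻¹ * c⁻¹)) :=
    Ann_symm (Commute.mul_left (u1 x x.2) (u2 _ (conj_mem_cj.2 x.2)))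
      (h.comm_mem hz (hz' x x.2).symm)
  have u4 := pow_eq_one_of_sq h.inj h.char (mul_mem
    (comp_le_Ann h.comp u1 u3 (not_cent_mul h.comp h.ne hx x.2) hz)
    (comp_le_Ann h.comp' u2 u3 (h.d_not_cent hx) hzc))
  have u5 : (z * (c * z⁻¹ * c⁻¹)) ^ orderOf z = 1 := by
    rw [Commute.mul_pow (comm_cj h.comp h.ne (inv_mem hz) hz), conj_pow, inv_pow, pow_orderOf_eq_one]
    simp
  have u6 : z * (c * z⁻¹ * c⁻¹) = 1 := by
    obtain ⟨k, hk⟩ := ho
    rwa [hk, pow_succ, pow_mul, u4, one_pow, one_mul] at u5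
  have u7 : h.d ⟨z, hz⟩ = z ^ 2 := by
    rw [dl_apply, pow_two]
    congr 1
    rw [mul_eq_one_iff_eq_inv] at u6
    conv_rhs => rw [u6]
    group
  have u8 := h.c_mem ⟨z, hz⟩
  rw [u7] at u8
  have u9 := pow_eq_one_of_sq h.inj h.char (comp_le_Ann h.comp (pow_mem hz' 2) u8
    (h.toCfg.not_cent' h.mem fun e => h.ne (by rw [e, cj_one])) (pow_mem hz 2))
  exact h.h2 z hz hz' (h.h2 _ (pow_mem hz 2) (pow_mem hz' 2) u9)

theorem key' {x : K} (hx : x ≠ 1) {w : G} (hw : w ∈ K) (e : w * x = x * w)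
    (m : w ∈ Ann φ (h.d x)) : w = 1 :=
  h.eq_one hw (h.key (fun hn => hx (Subtype.ext (h.eq_one x.2 hn))) hw e m)

theorem CA (x : K) (hx : x ≠ 1) (y y' : K) (e : Commute y x) (e' : Commute y' x) : Commute y y' := by
  have e1 : Commute (y : G) x := congrArg Subtype.val e
  have e2 : Commute (y' : G) x := congrArg Subtype.val e'
  have m1 := h.comm_mem y.2 e1
  have m2 := mul_mem (conj_mem_Ann' m1 (h.d_comm y'.2 e2)) (inv_mem m1)
  have e3 : (y' : G) * (y * (c * (y : G)⁻¹ * c⁻¹)) * (y' : G)⁻¹ * (y * (c * (y : G)⁻¹ * c⁻¹))⁻¹ =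
      ⁅(y' : G), (y : G)⁆ := by
    rw [mul_assoc (y' : G), mul_assoc (y : G), ← comm_cj h.comp h.ne (inv_mem y.2) (inv_mem y'.2),
      commutatorElement_def]
    group
  rw [e3] at m2
  have := h.key' hx (mul_mem (mul_mem (mul_mem y'.2 y.2) (inv_mem y'.2)) (inv_mem y.2))
    (((e2.mul_left e1).mul_left e2.inv_left).mul_left e1.inv_left) m2
  exact Subtype.ext (commutatorElement_eq_one_iff_mul_comm.1 this).symm

theorem mem_Ann_d {a : G} (ha : a ∈ A) (hN : a ∈ normalizer (K : Set G)) {x : K}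
    (e : a * x = x * a) : a ∈ Ann φ (h.d x) := by
  have hne : cj (c * a) K ≠ K := by
    rw [cj_mul, cj_eq_of_mem_normalizer hN]
    exact h.ne
  have e1 : dl h.comp hne x = h.d x := by
    simp only [dl_apply]
    rw [mul_assoc c a, e]
    group
  have m := Ann_symm (dl_comm h.comp hne (h.toCfg.sq (mul_mem h.mem ha)) x)
    (h.star _ (mul_mem h.mem ha) hne x)
  rw [e1] at m
  exact (mul_mem_cancel_left (h.c_mem x)).1 m

theorem fix_cent {a : G} (ha : a ∈ A) (hN : a ∈ normalizer (K : Set G)) {x : K} (hx : x ≠ 1)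
    (e : a * x = x * a) {y : K} (e' : Commute y x) : a * y = y * a := by
  have e1 : Commute (y : G) x := congrArg Subtype.val e'
  have e2 : Commute a x := e
  have m := h.mem_Ann_d ha hN e
  have m2 := mul_mem (conj_mem_Ann' m (h.d_comm y.2 e1)) (inv_mem m)
  have := h.key' hx (w := y * a * (y : G)⁻¹ * a⁻¹) (by
    have := mul_mem y.2 (conj_mem_of_mem_normalizer hN (inv_mem y.2))
    simpa only [mul_assoc] using this)
    (((e1.mul_left e2).mul_left e1.inv_left).mul_left e2.inv_left) m2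
  exact (commutatorElement_eq_one_iff_mul_comm.1 this).symm

theorem center_eq_bot : center K = ⊥ := by
  rw [eq_bot_iff]
  intro z hz
  exact Subtype.ext (h.eq_one z.2 fun k hk => congrArg Subtype.val (mem_center_iff.1 hz ⟨k, hk⟩))

theorem simple : IsSimpleGroup K :=
  H23.IsQuasisimple.isSimpleGroup_of_center_eq_bot h.comp.2 h.center_eq_bot

theorem eq_d {a : G} (ha : a ∈ A) {g : K} (e : ∀ x ∈ K, a * x * a⁻¹ = g * x * (g : G)⁻¹) :
    g * g = 1 ∧ a = h.d g := by
  have k1 : ∀ {u v : G}, u ∈ K → v ∈ K → (∀ x ∈ K, u * x * u⁻¹ = v * x * v⁻¹) → u = v :=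
    fun {u v} hu hv e => by
      have := h.eq_one (mul_mem (inv_mem hv) hu) fun x hx => by
        calc _ = v⁻¹ * (v * x * v⁻¹) * u := by group
          _ = _ := by rw [← e x hx]; group
      exact (inv_mul_eq_one.1 this).symm
  have hg : g * g = 1 := Subtype.ext (k1 (g * g).2 (one_mem _) fun x hx => by
    calc _ = g * (g * x * (g : G)⁻¹) * (g : G)⁻¹ := by simp [mul_assoc]
      _ = (a * a) * x * (a * a)⁻¹ := by
          rw [← e _ (mul_mem (mul_mem g.2 hx) (inv_mem g.2)), ← e x hx]; group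
      _ = _ := by rw [h.toCfg.sq ha]; simp)
  have k2 : ∀ a' ∈ A, a' ∈ normalizer (K : Set G) → a' * h.d g = h.d g * a' := fun a' h1 h2 => by
    have : a' * g * a'⁻¹ = g := k1 (conj_mem_of_mem_normalizer h2 g.2) g.2 fun x hx => by
      calc _ = a' * (g * (a'⁻¹ * x * a') * (g : G)⁻¹) * a'⁻¹ := by group
        _ = (a' * a * a'⁻¹) * x * (a' * a * a'⁻¹)⁻¹ := by
            rw [← e _ (conj_mem_of_mem_normalizer' h2 hx)]; group
        _ = _ := by rw [h.comm a' h1 a ha, mul_inv_cancel_right, e x hx]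
    rw [← mul_inv_eq_iff_eq_mul, dl_conj h.comp h.ne h2 (h.comm a' h1 c h.mem)]
    congr 1
    exact Subtype.ext this
  have k3 : ∀ a' ∈ A, Commute a' (h.d g) := fun a' h1 => by
    rcases h.two a' h1 with h2 | h2
    · exact k2 a' h1 (mem_normalizer_iff_cj.2 h2)
    · have h3 : Commute (c⁻¹ * a') (h.d g) := k2 _ (mul_mem (inv_mem h.mem) h1)
        (mem_normalizer_iff_cj.2 (by rw [cj_mul, h2, cj_inv_cj]))
      simpa using Commute.mul_left (h.c_comm g) h3
  refine ⟨hg, mul_inv_eq_one.1 (h.h1 _ ?_ (fun a' h1 => ?_) fun x hx => ?_)⟩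
  · rw [(k3 a ha).inv_right.mul_pow, h.pow a ha, inv_pow, ← map_pow, pow_two, hg, map_one]
    simp
  · exact Commute.mul_right (h.comm a' h1 a ha) (k3 a' h1).inv_right
  · have h1 := dl_conj_K h.comp h.ne g⁻¹ hx
    rw [map_inv, inv_inv] at h1
    have h2 := e _ (mul_mem (mul_mem g⁻¹.2 hx) (inv_mem g⁻¹.2))
    rw [← h1] at h2
    calc _ = (g * ((h.d g)⁻¹ * x * h.d g) * (g : G)⁻¹) * (a * (h.d g)⁻¹) := by
          rw [h1]; simp [mul_assoc]
      _ = _ := by rw [← h2]; group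

theorem exists_z : ∃ z : K, z ≠ 1 ∧ ∀ a ∈ A, a ∈ normalizer (K : Set G) →
    (∀ m : K, Commute m z → h.d m ∈ Ann φ a) ∧ ∃ g : K, Commute g z ∧ g * g = 1 ∧ a = h.d g := by
  obtain ⟨P, hP, hAP⟩ := H69.exists_isSylowIn_le (p := 2) (R := A ⊓ normalizer (K : Set G))
    (isPGroup_iff_forall.2 fun x hx => ⟨1, h.pow x hx.1⟩) inf_le_right
  have hS := hP.inf_normal le_normalizer le_rfl
  obtain ⟨t, ht, ht2⟩ := exists_involution_of_not_isSolvable (not_isSolvable_of_component h.comp)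
  have h2 : 2 ∣ Nat.card K := ht2 ▸ orderOf_dvd_natCard K ht
  obtain ⟨z, hz, hz1, hzP⟩ := exists_mem_center_of_normal hP.isP (W := P ⊓ K) inf_le_left
    (fun g hg w hw => ⟨P.mul_mem (P.mul_mem hg hw.1) (P.inv_mem hg),
      conj_mem_of_mem_normalizer (hP.le hg) hw.2⟩) (hS.dvd_card_iff.1 h2)
  have hz1' : (⟨z, hz.2⟩ : K) ≠ 1 := fun e => hz1 (congrArg Subtype.val e)
  refine ⟨⟨z, hz.2⟩, hz1', fun a ha hN => ?_⟩
  have hfix : ∀ m : K, Commute m ⟨z, hz.2⟩ → a * m = m * a := fun m hm =>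
    h.fix_cent ha hN hz1' (hzP a (hAP ⟨ha, hN⟩)) hm
  refine ⟨fun m hm => Ann_symm ?_ (h.mem_Ann_d ha hN (hfix m hm)), ?_⟩
  · have c1 : Commute a m := hfix m hm
    have c2 : Commute a c := h.comm a ha c h.mem
    exact (c1.mul_right ((c2.mul_right c1).mul_right c2.inv_right)).symm
  obtain ⟨S, hS'⟩ := hS.exists_sylow_subgroupOf
  have hSz : ∀ s ∈ S, Commute s (⟨z, hz.2⟩ : K) := fun s hs => by
    have : s ∈ (P ⊓ K).subgroupOf K := hS' ▸ hs
    exact Subtype.ext (hzP s this.1)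
  haveI := h.simple
  obtain ⟨g, hg⟩ := inner_of_fixes_comm_sylow (pPrimeCore_eq_bot_of_simple Nat.prime_two h2)
    h.center_eq_bot S ⟨⟨fun x y => Subtype.ext (h.CA _ hz1' _ _ (hSz _ x.2) (hSz _ y.2))⟩⟩
    (K.normalizerMonoidHom ⟨a, hN⟩) (k := 1)
    (by rw [← map_pow, show (⟨a, hN⟩ : normalizer (K : Set G)) ^ 2 ^ 1 = 1 from
      Subtype.ext (h.pow a ha), map_one])
    fun s hs => Subtype.ext (mul_inv_eq_iff_eq_mul.2 (hfix s (hSz s hs)))
  have e : ∀ x ∈ K, a * x * a⁻¹ = g * x * (g : G)⁻¹ := fun x hx => by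
    simpa using congrArg Subtype.val (DFunLike.congr_fun hg ⟨x, hx⟩)
  refine ⟨g, Subtype.ext ?_, h.eq_d ha e⟩
  have := e z hz.2
  rw [hzP a (hAP ⟨ha, hN⟩), mul_inv_cancel_right] at this
  exact mul_inv_eq_iff_eq_mul.1 this.symm

end Two

end H72.PGV
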