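import Cfsg.Agent.Base
import Cfsg.Agent.Lib.InvChar.PGV4
import Cfsg.Agent.Lib.Core.GrpBasic

/-! Counting fixed vectors: replacement and the reduced case of the `P(G, V)`-theorem. -/

set_option autoImplicit false
set_option linter.style.haveILetI false
set_option linter.unusedSectionVars false
namespace H72.PGV
open Cfsg Subgroup H68
open scoped commutatorElement

variable {G R : Type*} [Group G] [Finite G] [Ring R] {φ : G →* R} {K A : Subgroup G} {c : G} {p : ℕ}
  {V : Type*} [AddCommGroup V] [Module R V]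

variable (φ V) in
/-- The vectors fixed by a set of group elements. -/
def Fx (B : Set G) : AddSubgroup V where
  carrier := {v | ∀ b ∈ B, φ b • v = v}
  zero_mem' := fun _ _ => smul_zero _
  add_mem' := fun hx hy b hb => by rw [smul_add, hx b hb, hy b hb]
  neg_mem' := fun hx b hb => by rw [smul_neg, hx b hb]

theorem mem_Fx {B : Set G} {v : V} : v ∈ Fx φ V B ↔ ∀ b ∈ B, φ b • v = v := Iff.rfl

theorem mem_Fx1 {c : G} {v : V} : v ∈ Fx φ V {c} ↔ φ c • v = v := by simp [mem_Fx]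

variable (φ) in
/-- The stabiliser of a vector. -/
def Sv (t : V) : Subgroup G where
  carrier := {g | φ g • t = t}
  one_mem' := by simp
  mul_mem' := fun {a b} ha hb => by
    simp only [Set.mem_ofPred_eq] at *
    rw [map_mul, mul_smul, hb, ha]
  inv_mem' := fun {a} ha => by
    simp only [Set.mem_ofPred_eq] at *
    conv_lhs => rw [← ha]
    rw [← mul_smul, map_inv_mul, one_smul]

theorem mem_Sv {t : V} {g : G} : g ∈ Sv φ t ↔ φ g • t = t := Iff.rfl

theorem smul_smul' (g h : G) (v : V) : φ g • φ h • v = φ (g * h) • v := by rw [map_mul, mul_smul]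

theorem D_smul (g : G) (v : V) : (φ g - 1) • v = φ g • v - v := by rw [sub_smul, one_smul]

theorem smul_mem_Fx {B : Set G} {g : G} (h : ∀ b ∈ B, b * g = g * b) {v : V} (hv : v ∈ Fx φ V B) :
    φ g • v ∈ Fx φ V B := fun b hb => by rw [smul_smul', h b hb, ← smul_smul', hv b hb]

theorem D_smul_mem_Fx {B : Set G} {g : G} (h : ∀ b ∈ B, b * g = g * b) {v : V} (hv : v ∈ Fx φ V B) :
    (φ g - 1) • v ∈ Fx φ V B := by
  rw [D_smul]
  exact sub_mem (smul_mem_Fx h hv) hv

theorem Ann_fix {g h : G} (H : h ∈ Ann φ g) (v : V) : φ h • (φ g - 1) • v = (φ g - 1) • v := by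
  rw [← mul_smul, show φ h * (φ g - 1) = φ g - 1 from H]

theorem Fx_anti' {B B' : Set G} (h : B ⊆ B') : Fx φ V B' ≤ Fx φ V B := fun _ hv b hb => hv b (h hb)

theorem Fx_anti {B B' : Subgroup G} (h : B ≤ B') : Fx φ V B' ≤ Fx φ V B := Fx_anti' h

theorem Fx_sup (B B' : Subgroup G) : Fx φ V ((B ⊔ B' : Subgroup G) : Set G) = Fx φ V B ⊓ Fx φ V B' :=
  le_antisymm (le_inf (Fx_anti le_sup_left) (Fx_anti le_sup_right)) fun v hv _ hb =>
    (sup_le (fun b hb => hv.1 b hb) (fun b hb => hv.2 b hb) : B ⊔ B' ≤ Sv φ v) hb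

theorem add_card_sup_inf (U W : AddSubgroup V) :
    Nat.card (U ⊔ W : AddSubgroup V) * Nat.card (U ⊓ W : AddSubgroup V) = Nat.card U * Nat.card W := by
  have := H1.card_sup_mul_card_inf_of_normal (AddSubgroup.toSubgroup U) (AddSubgroup.toSubgroup W)
  rw [← OrderIso.map_sup, ← OrderIso.map_inf] at this
  exact this

variable [Finite V]

theorem card_le_card_Fx {U W : AddSubgroup V} (h : U ≤ W) : Nat.card U ≤ Nat.card W :=
  AddSubgroup.card_le_of_le h

/-- Restriction of the best offender inequality to a subgroup of `V`. -/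
theorem best_inf (W : AddSubgroup V) {B : Subgroup G} (hB : B ≤ A)
    (h : Nat.card B * Nat.card (Fx φ V B) ≤ Nat.card A * Nat.card (Fx φ V A)) :
    Nat.card B * Nat.card ↥(W ⊓ Fx φ V B) ≤ Nat.card A * Nat.card ↥(W ⊓ Fx φ V A) := by
  have h1 := add_card_sup_inf (W ⊓ Fx φ V B) (Fx φ V A)
  rw [inf_assoc, inf_eq_right.2 (Fx_anti hB)] at h1
  have h2 := card_le_card_Fx (sup_le inf_le_right (Fx_anti hB) :
    (W ⊓ Fx φ V B) ⊔ Fx φ V A ≤ Fx φ V B)
  refine Nat.le_of_mul_le_mul_right ?_ (Nat.card_pos (α := Fx φ V A))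
  calc _ = Nat.card B * Nat.card ↥((W ⊓ Fx φ V B) ⊔ Fx φ V A) * Nat.card ↥(W ⊓ Fx φ V A) := by
        rw [mul_assoc, ← h1, mul_assoc]
    _ ≤ Nat.card B * Nat.card (Fx φ V B) * Nat.card ↥(W ⊓ Fx φ V A) := by gcongr
    _ ≤ Nat.card A * Nat.card (Fx φ V A) * Nat.card ↥(W ⊓ Fx φ V A) := by gcongr
    _ = _ := by ring

theorem D_pow (hp : p.Prime) (hR : (p : R) = 0) {a : G} (ha : a ^ p = 1) : (φ a - 1) ^ p = 0 := by
  obtain ⟨r, hr⟩ := (Commute.one_right (φ a - 1)).exists_add_pow_prime_eq hp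
  rw [sub_add_cancel, ← map_pow, ha, map_one, hR, one_pow, zero_mul, zero_mul, zero_mul,
    add_zero] at hr
  exact add_eq_right.1 hr.symm

/-- The replacement theorem. -/
theorem exists_quad [FaithfulSMul R V] (hp : p.Prime) (hR : (p : R) = 0)
    (hc : ∀ a ∈ A, ∀ a' ∈ A, a * a' = a' * a) (hpow : ∀ a ∈ A, a ^ p = 1) (hA : A ≠ ⊥)
    (hbest : ∀ B ≤ A, Nat.card B * Nat.card (Fx φ V B) ≤ Nat.card A * Nat.card (Fx φ V A)) :
    ∃ B ≤ A, B ≠ ⊥ ∧ (∀ b ∈ B, A ≤ Ann φ b) ∧
      Nat.card A * Nat.card (Fx φ V A) ≤ Nat.card B * Nat.card (Fx φ V B) := by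
  obtain ⟨B, ⟨hBA, hB1, hB⟩, hmin⟩ := (wellFounded_lt (α := Subgroup G)).has_min
    {B | B ≤ A ∧ B ≠ ⊥ ∧ Nat.card A * Nat.card (Fx φ V A) ≤ Nat.card B * Nat.card (Fx φ V B)}
    ⟨A, le_rfl, hA, le_rfl⟩
  refine ⟨B, hBA, hB1, ?_, hB⟩
  suffices H : ∀ w : V, ∀ b ∈ B, φ b • w - w ∈ Fx φ V A by
    intro b hb a ha
    refine mem_Ann.2 (eq_of_smul_eq_smul (α := V) fun w => ?_)
    rw [mul_smul, D_smul b, D_smul, H w b hb a ha, sub_self, zero_smul]
  intro w
  let Aw : Subgroup G :=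
    { carrier := {a | a ∈ A ∧ φ a • w - w ∈ Fx φ V A}
      one_mem' := ⟨one_mem _, by simp⟩
      mul_mem' := fun {x y} hx hy => ⟨mul_mem hx.1 hy.1, by
        have := add_mem hx.2 hy.2
        rwa [← hy.2 x hx.1, smul_sub, smul_smul', add_comm, sub_add_sub_cancel] at this⟩
      inv_mem' := fun {x} hx => ⟨inv_mem hx.1, by
        have := neg_mem hx.2
        rwa [← hx.2 x⁻¹ (inv_mem hx.1), smul_sub, smul_smul', inv_mul_cancel, map_one, one_smul,
          neg_sub] at this⟩ }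
  have hAw : Aw ≤ A := fun _ h => h.1
  let j : (A ⧸ Aw.subgroupOf A) × Fx φ V A → Fx φ V Aw := fun q =>
    ⟨φ q.1.out • w - w + q.2, add_mem (fun b hb => by
      have := hb.2 _ q.1.out.2
      rw [smul_sub, smul_smul'] at this ⊢
      rw [hc b hb.1 _ q.1.out.2, sub_eq_sub_iff_sub_eq_sub.1 this]) (Fx_anti hAw q.2.2)⟩
  have hj : Function.Injective j := by
    rintro ⟨q, u⟩ ⟨q', u'⟩ e
    have e1 : φ q.out • w - w + u = φ q'.out • w - w + u' := Subtype.ext_iff.1 e
    have e2 : q = q' := by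
      rw [← q.out_eq, ← q'.out_eq, QuotientGroup.eq, mem_subgroupOf]
      refine ⟨(q.out⁻¹ * q'.out).2, ?_⟩
      have e3 : φ q'.out • w - φ q.out • w = u - u' := by
        rw [sub_eq_sub_iff_add_eq_add]
        linear_combination (norm := abel) -e1
      have e4 := (sub_mem u.2 u'.2) _ (inv_mem q.out.2)
      rw [← e3, smul_sub, smul_smul', smul_smul', inv_mul_cancel, map_one, one_smul, e3] at e4
      rw [coe_mul, coe_inv, e4]
      exact sub_mem u.2 u'.2
    subst e2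
    exact Prod.ext rfl (Subtype.ext (add_left_cancel e1))
  have c1 : Nat.card A * Nat.card (Fx φ V A) =
      Nat.card Aw * Nat.card ((A ⧸ Aw.subgroupOf A) × Fx φ V A) := by
    rw [Nat.card_prod, card_eq_card_quotient_mul_card_subgroup (Aw.subgroupOf A),
      Nat.card_congr (subgroupOfEquivOfLe hAw).toEquiv]
    ring
  have c2 := Nat.card_le_card_of_injective j hj
  have c3 := hbest Aw hAw
  have c4 : Nat.card (Fx φ V Aw) ≤ Nat.card ((A ⧸ Aw.subgroupOf A) × Fx φ V A) :=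
    Nat.le_of_mul_le_mul_left (c1 ▸ c3) Nat.card_pos
  have hs : Function.Surjective j := (Nat.bijective_iff_injective_and_card j).2
    ⟨hj, le_antisymm c2 c4⟩ |>.2
  have c5 : Nat.card A * Nat.card (Fx φ V A) ≤ Nat.card Aw * Nat.card (Fx φ V Aw) := by
    rw [c1]; gcongr
  have d1 := H1.card_sup_mul_card_inf_of_le_normalizer (H := B) (N := Aw)
    (le_normalizer_of_conj fun k hk x hx => by
      rwa [hc k (hBA hk) x hx.1, mul_inv_cancel_right])
  have d2 := add_card_sup_inf (Fx φ V B) (Fx φ V Aw)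
  rw [← Fx_sup] at d2
  have d3 := hbest _ (sup_le hBA hAw)
  have d4 : Nat.card A * Nat.card (Fx φ V A) ≤
      Nat.card ↥(B ⊓ Aw) * Nat.card ↥(Fx φ V B ⊔ Fx φ V Aw) := by
    refine Nat.le_of_mul_le_mul_left (a := Nat.card A * Nat.card (Fx φ V A)) ?_
      (Nat.mul_pos (Nat.card_pos (α := A)) (Nat.card_pos (α := Fx φ V A)))
    calc _ ≤ (Nat.card B * Nat.card (Fx φ V B)) * (Nat.card Aw * Nat.card (Fx φ V Aw)) :=
          Nat.mul_le_mul hB c5
      _ = (Nat.card ↥(B ⊔ Aw) * Nat.card (Fx φ V ((B ⊔ Aw : Subgroup G) : Set G))) *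
          (Nat.card ↥(B ⊓ Aw) * Nat.card ↥(Fx φ V B ⊔ Fx φ V Aw)) := by
          rw [mul_mul_mul_comm, ← d1, ← d2]; ring
      _ ≤ _ := by gcongr
  by_cases h0 : B ⊓ Aw = ⊥
  · have d5 := hbest ⊥ bot_le
    have d6 : Fx φ V ((⊥ : Subgroup G) : Set G) = ⊤ := by
      rw [eq_top_iff]
      intro v _ b hb
      rw [mem_bot.1 hb, map_one, one_smul]
    rw [h0, card_bot, one_mul] at d4
    rw [d6, card_bot, one_mul] at d5
    have d7 : Fx φ V B ⊔ Fx φ V Aw = ⊤ :=
      AddSubgroup.eq_of_le_of_card_ge le_top (d5.trans d4)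
    obtain ⟨u, hu, y, hy, e⟩ := AddSubgroup.mem_sup.1 (d7.ge (AddSubgroup.mem_top w))
    obtain ⟨⟨q, z⟩, e'⟩ := hs ⟨y, hy⟩
    have e1 : φ q.out • w - w + z = y := Subtype.ext_iff.1 e'
    have e2 : w - (φ q.out - 1) • w ∈ Fx φ V B := by
      have : w - (φ q.out - 1) • w = u + z := by
        rw [D_smul]
        linear_combination (norm := abel) -e - e1
      rw [this]
      exact add_mem hu (Fx_anti hBA z.2)
    have e3 : ∀ n : ℕ, w - (φ q.out - 1) ^ n • w ∈ Fx φ V B := fun n => by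
      induction n with
      | zero => simp
      | succ n ih =>
        have := add_mem e2 (D_smul_mem_Fx (fun b hb => hc b (hBA hb) _ q.out.2) ih)
        rwa [smul_sub, sub_add_sub_cancel, ← mul_smul, ← pow_succ'] at this
    have e4 := e3 p
    rw [D_pow hp hR (hpow _ q.out.2), zero_smul, sub_zero] at e4
    intro b hb
    rw [e4 b hb, sub_self]
    exact zero_mem _
  · intro b hb
    by_contra hn
    refine hmin (B ⊓ Aw) ⟨inf_le_left.trans hBA, h0, d4.trans (Nat.mul_le_mul_left _ (card_le_card_Fx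
      (sup_le (Fx_anti inf_le_left) (Fx_anti inf_le_right))))⟩
      (lt_of_le_of_ne inf_le_left fun e => hn (e.ge hb).2.2)

theorem transv_of_card [FaithfulSMul R V] {a : G} (h : Nat.card V ≤ 2 * Nat.card (Fx φ V {a})) (l : R) :
    (φ a - 1) * l * (φ a - 1) = 0 ∨ (φ a - 1) * l * (φ a - 1) = φ a - 1 := by
  have hi : (Fx φ V {a}).index ≤ 2 := by
    rw [← (Fx φ V {a}).index_mul_card] at h
    exact Nat.le_of_mul_le_mul_right h Nat.card_pos
  have key : ∀ u v : V, (φ a - 1) • u ≠ 0 → (φ a - 1) • v ≠ 0 → (φ a - 1) • u = (φ a - 1) • v := by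
    intro u v hu hv
    have m : ∀ {u : V}, u ∈ Fx φ V {a} ↔ (φ a - 1) • u = 0 := by
      intro u
      rw [mem_Fx1, D_smul, sub_eq_zero]
    have h2 : (Fx φ V {a}).index = 2 := by
      have h0 := (Fx φ V {a}).index_ne_zero_of_finite
      have h1 : (Fx φ V {a}).index ≠ 1 := fun e =>
        hu (m.1 ((AddSubgroup.index_eq_one.1 e).ge (AddSubgroup.mem_top u)))
      omega
    have := (AddSubgroup.add_mem_iff_of_index_two h2 (a := u) (b := -v)).2 (by
      rw [neg_mem_iff, m, m]; simp [hu, hv])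
    rwa [m, ← sub_eq_add_neg, smul_sub, sub_eq_zero] at this
  by_cases h0 : ∀ u : V, ((φ a - 1) * l * (φ a - 1)) • u = 0
  · exact Or.inl (eq_of_smul_eq_smul (α := V) fun u => by rw [h0, zero_smul])
  right
  push Not at h0
  obtain ⟨u, hu⟩ := h0
  rw [mul_smul, mul_smul] at hu
  have hu' : (φ a - 1) • u ≠ 0 := fun e => hu (by rw [e, smul_zero, smul_zero])
  refine eq_of_smul_eq_smul (α := V) fun v => ?_
  rw [mul_smul, mul_smul]
  by_cases hv : (φ a - 1) • v = 0
  · rw [hv, smul_zero, smul_zero]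
  · rw [key v u hv hu', key _ u hu hu']

theorem Two.card_le [FaithfulSMul R V] (h : Two φ K A c) {b : G} (hb : b ∈ A)
    (hbN : b ∈ normalizer (K : Set G)) (hb1 : b ≠ 1) :
    Nat.card ↥(A ⊓ normalizer (K : Set G)) * Nat.card (Fx φ V A) ≤ Nat.card (Fx φ V {c}) := by
  obtain ⟨z, hz1, hz⟩ := h.exists_z
  obtain ⟨hM, s, hsz, hss, rfl⟩ := hz b hb hbN
  have hs1 : s ≠ 1 := fun e => hb1 (by rw [e, map_one])
  haveI := h.simple
  have hT : ∀ (l : K) {t : V}, t ∈ Fx φ V {c} → φ (h.d l) • t ∈ Fx φ V {c} := fun l t ht =>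
    smul_mem_Fx (by rintro _ rfl; exact h.c_comm l) ht
  have hex : ∃ (g : K) (t : V) (m : K), t ∈ Fx φ V {c} ∧ Commute m z ∧
      h.d m ∉ Sv φ ((φ (h.d (g * s * g⁻¹)) - 1) • t) := by
    by_contra hn
    push Not at hn
    have h1 : ∀ t ∈ Fx φ V {c}, ∀ l, h.d l ∈ Sv φ ((φ (h.d s) - 1) • t) := fun t ht l => by
      have : normalClosure {z} ≤ (Sv φ ((φ (h.d s) - 1) • t)).comap h.d := by
        rw [normalClosure, closure_le]
        intro y hy
        obtain ⟨_, rfl, hy'⟩ := Group.mem_conjugatesOfSet_iff.1 hy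
        obtain ⟨g, rfl⟩ := isConj_iff.1 hy'
        have := hn g⁻¹ _ _ (hT g⁻¹ ht) (Commute.refl _)
        rw [mem_Sv, map_mul h.d, map_mul h.d, map_inv h.d g⁻¹, D_conj, mul_smul, mul_smul,
          smul_smul' (h.d g⁻¹)⁻¹, inv_mul_cancel, map_one, one_smul, map_inv] at this
        rw [SetLike.mem_coe, mem_comap, mem_Sv, map_mul h.d, map_mul h.d, map_inv, ← smul_smul',
          ← smul_smul', this, smul_smul', mul_inv_cancel, map_one, one_smul]
      rw [(IsSimpleGroup.eq_bot_or_eq_top_of_normal (normalClosure {z}) inferInstance).resolve_left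
        fun e => hz1 (mem_bot.1 (e.le (subset_normalClosure rfl)))] at this
      exact this (mem_top l)
    let N : Subgroup K :=
      { carrier := {k | ∀ t ∈ Fx φ V {c}, ∀ l, h.d l ∈ Sv φ ((φ (h.d k) - 1) • t)}
        one_mem' := fun t _ l => by simp [mem_Sv]
        mul_mem' := fun {x y} hx hy t ht l => by
          have e : (φ (h.d (x * y)) - 1) • t =
              (φ (h.d x) - 1) • φ (h.d y) • t + (φ (h.d y) - 1) • t := by
            rw [D_smul, D_smul, D_smul, smul_smul', map_mul h.d, sub_add_sub_cancel]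
          rw [mem_Sv, e, smul_add, hx _ (hT y ht) l, hy t ht l]
        inv_mem' := fun {x} hx t ht l => by
          have e : (φ (h.d x⁻¹) - 1) • t = -((φ (h.d x) - 1) • φ (h.d x⁻¹) • t) := by
            rw [D_smul, D_smul, smul_smul', ← map_mul h.d, mul_inv_cancel, map_one, map_one, one_smul,
              neg_sub]
          rw [mem_Sv, e, smul_neg, hx _ (hT _ ht) l] }
    have hN : N.Normal := ⟨fun x hx g t ht l => by
      rw [map_mul h.d, map_mul h.d, map_inv, D_conj, mul_smul, mul_smul, ← map_inv,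
        hx _ (hT _ ht) g]
      exact hx _ (hT _ ht) l⟩
    have hN' : N = ⊤ := (IsSimpleGroup.eq_bot_or_eq_top_of_normal N hN).resolve_left
      fun e => hs1 (mem_bot.1 (e.le h1))
    have hL : h.d.range = ⊥ := eq_bot_of_triple h.inj (by
      rw [MonoidHom.range_eq_map, ← map_commutator, ← _root_.commutator,
        h.comp.2.1.commutator_eq_top]) (by
      rintro _ ⟨x, rfl⟩ _ ⟨y, rfl⟩ _ ⟨w, rfl⟩
      refine eq_of_smul_eq_smul (α := V) fun v => ?_
      rw [mul_smul, mul_smul, D_smul (h.d x), hN'.ge (mem_top y) _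
        (mem_Fx1.2 (Ann_fix (h.c_mem w) v)) x, sub_self, zero_smul])
    exact hb1 (mem_bot.1 (hL.le ⟨s, rfl⟩))
  obtain ⟨g, t₀, m, ht₀, hm, hmt⟩ := hex
  set t := (φ (h.d (g * s * g⁻¹)) - 1) • t₀
  have ht : t ∈ Fx φ V {c} := D_smul_mem_Fx (by rintro _ rfl; exact h.c_comm _) ht₀
  have hM1 : ∀ m : K, Commute m (g * s * g⁻¹) → m ∈ (Sv φ t).comap h.d := fun m hm => by
    have e : Commute (g⁻¹ * m * g) s := by
      change _ = _
      calc _ = g⁻¹ * (m * (g * s * g⁻¹)) * g := by group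
        _ = _ := by rw [hm]; group
    have := conj_mem_Ann (hM _ (h.CA s hs1 _ _ e hsz.symm)) (h.d g)
    rw [← map_inv, ← map_mul, ← map_mul, ← map_mul, ← map_mul,
      show g * (g⁻¹ * m * g) * g⁻¹ = m by group] at this
    exact Ann_fix this t₀
  have hss1 : g * s * g⁻¹ * (g * s * g⁻¹) = 1 := by
    calc _ = g * (s * s) * g⁻¹ := by group
      _ = 1 := by rw [hss]; group
  rw [← Nat.card_prod]
  refine Nat.card_le_card_of_injective (fun q => ⟨φ q.1 • t + φ (h.d g) • q.2, add_mem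
    (smul_mem_Fx (by rintro _ rfl; exact h.comm _ h.mem _ q.1.2.1) ht)
    (hT g (Fx_anti' (by rintro _ rfl; exact h.mem) q.2.2))⟩) ?_
  rintro ⟨a, u⟩ ⟨a', u'⟩ e
  have e1 : φ a • t + φ (h.d g) • (u : V) = φ a' • t + φ (h.d g) • (u' : V) := Subtype.ext_iff.1 e
  have e2 : a = a' := by
    by_contra hne
    obtain ⟨hM', r, hrz, hrr, hr⟩ := hz _ (a'⁻¹ * a).2.1 (a'⁻¹ * a).2.2
    obtain ⟨-, r', hrz', -, hr'⟩ := hz _ a'.2.1 a'.2.2
    have hr1 : r ≠ 1 := fun e => hne (by
      rw [e, map_one] at hr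
      exact (inv_mul_eq_one.1 (Subtype.ext hr)).symm)
    have e3 := Ann_fix (hM' r' hrz') t
    rw [← hr', D_smul, smul_sub, smul_smul', coe_mul, coe_inv, mul_inv_cancel_left] at e3
    have e4 : φ a • t - φ a' • t = φ (h.d g) • ((u' : V) - u) := by
      rw [smul_sub, sub_eq_sub_iff_add_eq_add, e1, add_comm]
    have e5 : φ (h.d (g * s * g⁻¹)) • φ (h.d g) • ((u' : V) - u) = φ (h.d g) • ((u' : V) - u) := by
      rw [smul_smul', ← map_mul, inv_mul_cancel_right, map_mul, ← smul_smul',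
        sub_mem u'.2 u.2 _ hb]
    rw [← e4, e3, smul_sub, hM1 _ (Commute.refl _), sub_left_inj] at e5
    refine hmt (le_of_CA h.CA hrr hr1 hss1 hM1 ?_ (h.CA z hz1 _ _ hm hrz))
    rw [mem_comap, map_mul, map_mul, map_inv, ← hr, mem_Sv, ← smul_smul', ← smul_smul', coe_mul,
      coe_inv, e5, smul_smul', inv_mul_cancel, map_one, one_smul]
  subst e2
  have e3 := congrArg (φ (h.d g)⁻¹ • ·) (add_left_cancel e1)
  simp only [smul_smul', inv_mul_cancel, map_one, one_smul] at e3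
  exact Prod.ext rfl (Subtype.ext e3)

end H72.PGV
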