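import Cfsg.Agent.Base
import Cfsg.Agent.Lib.InvChar.PGV5

/-! The `P(G, V)`-theorem: best offenders normalise components. -/

set_option autoImplicit false
set_option linter.style.haveILetI false
set_option linter.unusedSectionVars false
namespace H72.PGV
open Cfsg Subgroup H68
open scoped commutatorElement

universe u v w

variable {G : Type u} {R : Type v} [Group G] [Finite G] [Ring R] {φ : G →* R} {K A : Subgroup G}
  {p : ℕ} {V : Type w} [AddCommGroup V] [Module R V] [Finite V] [FaithfulSMul R V]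

theorem card_le_of_best
    (hbest : ∀ B ≤ A, Nat.card B * Nat.card (Fx φ V B) ≤ Nat.card A * Nat.card (Fx φ V A)) :
    Nat.card V ≤ Nat.card A * Nat.card (Fx φ V A) := by
  have h := hbest ⊥ bot_le
  have e : Fx φ V ((⊥ : Subgroup G) : Set G) = ⊤ := by
    rw [eq_top_iff]
    intro v _ b hb
    rw [mem_bot.1 hb, map_one, one_smul]
  rwa [e, card_bot, one_mul, AddSubgroup.card_top] at h

theorem Cfg.le_normalizer (h : Cfg φ p K A) (hA : A ≠ ⊥)
    (hbest : ∀ B ≤ A, Nat.card B * Nat.card (Fx φ V B) ≤ Nat.card A * Nat.card (Fx φ V A)) :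
    A ≤ normalizer (K : Set G) := by
  intro c hc
  by_contra hn
  have hne : cj c K ≠ K := fun e => hn (mem_normalizer_iff_cj.2 e)
  obtain ⟨B, hBA, hB1, hq, hB⟩ := exists_quad h.prime h.char h.comm h.pow hA hbest
  have hV := card_le_of_best hbest
  by_cases h1 : ∃ b ∈ B, b ≠ 1 ∧ b ∈ normalizer (K : Set G)
  · obtain ⟨b, hb, hb1, hbN⟩ := h1
    have two : ∀ a ∈ A, cj a K = K ∨ cj a K = cj c K := fun a ha => by
      by_contra h2
      push Not at h2
      exact h.three (hBA hb) hbN hb1 hc ha (hq b hb hc) (hq b hb ha) hne h2.1 h2.2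
    obtain rfl : p = 2 := by
      by_contra h2
      obtain ⟨k, hk⟩ := h.prime.odd_of_ne_two h2
      rcases two _ (mul_mem hc hc) with e | e
      · have h3 := h.pow c hc
        rw [hk, pow_succ, pow_mul, pow_two, mul_eq_one_iff_inv_eq] at h3
        exact hn (h3 ▸ inv_mem (pow_mem (mem_normalizer_iff_cj.2 e) k))
      · rw [cj_mul] at e
        exact hne (cj_injective c e)
    have h2 : Two φ K A c := ⟨h, hc, hne, two, fun c' hc' h' x => h.star (hBA hb) hbN hb1 hc' h'
      (Ann_symm (h.comm b (hBA hb) c' hc') (hq b hb hc')) x⟩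
    have h3 := h2.card_le (V := V) (hBA hb) hbN hb1
    have h4 : Nat.card A ≤ 2 * Nat.card ↥(A ⊓ normalizer (K : Set G)) := by
      classical
      rw [← Nat.card_eq_fintype_card.trans Fintype.card_bool, ← Nat.card_prod]
      refine Nat.card_le_card_of_injective (fun a => if ha : (a : G) ∈ normalizer (K : Set G) then
        (true, ⟨a, a.2, ha⟩) else (false, ⟨c⁻¹ * a, A.mul_mem (A.inv_mem hc) a.2,
          mem_normalizer_iff_cj.2 (by
            rw [cj_mul, (two a a.2).resolve_left fun e => ha (mem_normalizer_iff_cj.2 e),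
              cj_inv_cj])⟩)) fun a a' e => ?_
      simp only at e
      split_ifs at e <;> simp only [Prod.mk.injEq] at e
      · exact Subtype.ext (congrArg Subtype.val e.2 :)
      · exact absurd e.1 (by decide)
      · exact absurd e.1 (by decide)
      · exact Subtype.ext (mul_left_cancel (Subtype.ext_iff.1 e.2))
    refine hn (mem_normalizer_of_transv h.inj (by exact_mod_cast h.char) h.comp (h.sq hc)
      (transv_of_card (V := V) ?_))
    calc _ ≤ _ := hV
      _ ≤ 2 * Nat.card ↥(A ⊓ normalizer (K : Set G)) * Nat.card (Fx φ V A) := by gcongr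
      _ ≤ _ := by rw [mul_assoc]; gcongr
  push Not at h1
  obtain ⟨⟨b, hb⟩, hb1⟩ := ne_bot_iff_exists_ne_one.1 hB1
  replace hb1 : b ≠ 1 := fun e => hb1 (Subtype.ext e)
  obtain rfl : p = 2 := by
    by_contra h2
    exact h1 b hb hb1 (mem_normalizer_of_quad h.inj h.prime h2 h.char h.comp (hq b hb (hBA hb)))
  by_cases h2 : ∃ b' ∈ B, b' ≠ 1 ∧ b' ≠ b
  · obtain ⟨b', hb', h3, h4⟩ := h2
    exact h.four (hBA hb) (hBA hb') (hq b hb (hBA hb'))
      (fun e => h1 b hb hb1 (mem_normalizer_iff_cj.2 e))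
      (fun e => h1 b' hb' h3 (mem_normalizer_iff_cj.2 e))
      fun e => h1 _ (mul_mem (inv_mem hb) hb') (fun e => h4 (inv_mul_eq_one.1 e).symm)
        (mem_normalizer_iff_cj.2 (by rw [cj_mul, e, cj_inv_cj]))
  push Not at h2
  have h3 : Nat.card B ≤ 2 := by
    classical
    rw [← Nat.card_eq_fintype_card.trans Fintype.card_bool]
    refine Nat.card_le_card_of_injective (fun x => decide ((x : G) = 1)) fun x y e => Subtype.ext ?_
    simp only [decide_eq_decide] at e
    by_cases hx : (x : G) = 1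
    · rw [hx, e.1 hx]
    · rw [h2 x x.2 hx, h2 y y.2 fun hy => hx (e.2 hy)]
  refine h1 b hb hb1 (mem_normalizer_of_transv h.inj (by exact_mod_cast h.char) h.comp (h.sq (hBA hb))
    (transv_of_card (V := V) ((hV.trans hB).trans (Nat.mul_le_mul h3 (card_le_card_Fx
      (Fx_anti' (by rintro _ rfl; exact hb)))))))

theorem eq_one_of_min (hp : p.Prime) (hφ : Function.Injective φ) (hR : (p : R) = 0) (hK : IsComponent K)
    (hmin : ∀ U : AddSubgroup V, (∀ g : G, ∀ u ∈ U, φ g • u ∈ U) → U = ⊤ ∨ U ≤ Fx φ V K)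
    {y : G} (hy : y ^ p = 1) (hc : y ∈ center G) : y = 1 := by
  have hc' : ∀ g, (φ y - 1) * φ g = φ g * (φ y - 1) := fun g => by
    rw [sub_mul, mul_sub, ← map_mul, ← map_mul, mem_center_iff.1 hc, one_mul, mul_one]
  have fin : (∀ v : V, φ y • v = v) → y = 1 := fun h =>
    hφ (eq_of_smul_eq_smul (α := V) fun v => by rw [h, map_one, one_smul])
  rcases hmin (Fx φ V {y}) (fun g u hu => smul_mem_Fx
    (by rintro _ rfl; exact (mem_center_iff.1 hc g).symm) hu) with h1 | h1
  · exact fin fun v => mem_Fx1.1 (h1.ge (AddSubgroup.mem_top v))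
  rcases hmin (DistribSMul.toAddMonoidHom V (φ y - 1)).range (by
    rintro g _ ⟨u, rfl⟩
    exact ⟨φ g • u, by simp only [DistribSMul.toAddMonoidHom_apply, ← mul_smul, hc']⟩) with h2 | h2
  · have : ∀ (n : ℕ) (v : V), ∃ u : V, (φ y - 1) ^ n • u = v := fun n => by
      induction n with
      | zero => simp
      | succ n ih =>
        intro v
        obtain ⟨u, rfl⟩ := ih v
        obtain ⟨u', rfl⟩ := h2.ge (AddSubgroup.mem_top u)
        exact ⟨u', by rw [pow_succ, mul_smul]; rfl⟩
    refine fin fun v => ?_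
    obtain ⟨u, rfl⟩ := this p v
    rw [D_pow hp hR hy, zero_smul, smul_zero]
  refine absurd (eq_bot_of_triple hφ (H23.IsComponent.commutator_self hK) fun x _ k hk z hz => ?_)
    (H23.IsComponent.ne_bot hK)
  refine eq_of_smul_eq_smul (α := V) fun v => ?_
  have h3 : (φ z - 1) • v ∈ Fx φ V {y} := by
    have := h2 ⟨v, rfl⟩ z hz
    rw [DistribSMul.toAddMonoidHom_apply, ← mul_smul, ← hc', mul_smul] at this
    rw [mem_Fx1, ← sub_eq_zero, ← D_smul, D_smul z, smul_sub, this, sub_self]
  rw [mul_smul, mul_smul, D_smul k, h1 h3 k hk, sub_self, smul_zero, zero_smul]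

theorem cfg_of_min (hp : p.Prime) (hφ : Function.Injective φ) (hR : (p : R) = 0) (hK : IsComponent K)
    (hA : IsElementaryAbelian p A) (htop : K ⊔ A = ⊤)
    (hmin : ∀ U : AddSubgroup V, (∀ g : G, ∀ u ∈ U, φ g • u ∈ U) → U = ⊤ ∨ U ≤ Fx φ V K) :
    Cfg φ p K A := by
  have h1 : ∀ y : G, y ^ p = 1 → y ∈ centralizer (A : Set G) → y ∈ centralizer (K : Set G) → y = 1 :=
    fun y hy h1 h2 => eq_one_of_min hp hφ hR hK hmin hy (mem_center_iff.2 fun g =>
      mem_centralizer_singleton_iff.1 ((sup_le (fun k hk => mem_centralizer_singleton_iff.2 (h2 k hk))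
        (fun k hk => mem_centralizer_singleton_iff.2 (h1 k hk)) :
          K ⊔ A ≤ centralizer {y}) (htop.ge (mem_top g))))
  refine ⟨hp, hφ, hR, hK, fun a ha a' ha' => congrArg Subtype.val (hA.1.1.1 ⟨a, ha⟩ ⟨a', ha'⟩), hA.2,
    h1, fun z hz hz' hzp => ?_⟩
  haveI := Fact.mk hp
  by_contra hz1
  have hQ : pCore p G ≠ ⊥ := fun e => hz1 (mem_bot.1 (e.le (H1.le_pCore_of_le_fitting
    (H9.isPGroup_zpowers_of_pow (a := 1) (by rwa [pow_one]))
    (zpowers_le.2 (H23.inf_centralizer_le_fitting hK.1 ⟨hz, hz'⟩)) (mem_zpowers z))))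
  have hAp : IsPGroup p A := isPGroup_iff_forall.2 fun x hx => ⟨1, by rw [pow_one, hA.2 x hx]⟩
  obtain ⟨w, hw, hw1, hwP⟩ := exists_mem_center_of_normal (W := pCore p G) (P := pCore p G ⊔ A)
    (IsPGroup.to_sup_of_normal_left H1.isPGroup_pCore hAp) le_sup_left
    (fun g _ w hw => Normal.conj_mem inferInstance w hw g) hQ
  obtain ⟨y, ⟨n, rfl⟩, hy⟩ := H69.exists_orderOf_eq_prime
    (H1.isPGroup_pCore.to_le (zpowers_le.2 hw)) (zpowers_ne_bot.2 hw1)
  have hC : pCore p G ≤ centralizer (K : Set G) := by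
    haveI := (H1.isPGroup_pCore (p := p) (G := G)).isNilpotent
    rw [le_centralizer_iff, ← commutator_eq_bot_iff_le_centralizer]
    exact H23.IsComponent.commutator_eq_bot_of_isSolvable hK inferInstance le_normalizer_of_normal
  have := h1 _ (hy ▸ pow_orderOf_eq_one _)
    (fun a ha => Commute.zpow_right (hwP a (mem_sup_right ha)) n) (hC (zpow_mem hw n))
  simp only [this, orderOf_one] at hy
  exact hp.one_lt.ne hy

theorem Fx_comp {H : Type*} [Group H] (f : H →* G) (B : Subgroup H) :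
    Fx (φ.comp f) V B = Fx φ V (B.map f) := by
  ext v
  exact ⟨fun h => by rintro _ ⟨b, hb, rfl⟩; exact h b hb, fun h b hb => h _ ⟨b, hb, rfl⟩⟩

theorem le_normalizer_top (hp : p.Prime) (hφ : Function.Injective φ) (hR : (p : R) = 0)
    (hK : IsComponent K) (hA : IsElementaryAbelian p A) (htop : K ⊔ A = ⊤)
    (hbest : ∀ B ≤ A, Nat.card B * Nat.card (Fx φ V B) ≤ Nat.card A * Nat.card (Fx φ V A)) :
    A ≤ normalizer (K : Set G) := by
  obtain ⟨W, ⟨hW, hWK⟩, hmin⟩ := (wellFounded_lt (α := AddSubgroup V)).has_min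
    {W | (∀ g : G, ∀ u ∈ W, φ g • u ∈ W) ∧ ¬ W ≤ Fx φ V K}
    ⟨⊤, fun _ _ _ => trivial, fun h => H23.IsComponent.ne_bot hK (eq_bot_iff.2 fun k hk =>
      hφ (eq_of_smul_eq_smul (α := V) fun v => by
        rw [h (AddSubgroup.mem_top v) k hk, map_one, one_smul]))⟩
  let ψ : G →* Module.End ℤ W :=
    { toFun := fun g => AddMonoidHom.toIntLinearMap
        (((DistribSMul.toAddMonoidHom V (φ g)).comp W.subtype).codRestrict W fun u => hW g u u.2)
      map_one' := by ext u; simp
      map_mul' := fun g g' => LinearMap.ext fun u => Subtype.ext (smul_smul' g g' (u : V)).symm }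
  have hψ : ∀ (g : G) (u : W), ((ψ g • u : W) : V) = φ g • (u : V) := fun _ _ => rfl
  let π := ψ.toHomUnits.rangeRestrict
  let χ : ψ.toHomUnits.range →* Module.End ℤ W := (Units.coeHom _).comp ψ.toHomUnits.range.subtype
  have hπ : Function.Surjective π := MonoidHom.rangeRestrict_surjective _
  haveI : Finite ψ.toHomUnits.range := Finite.of_surjective _ hπ
  have hFx : ∀ B : Subgroup G, Fx χ W (B.map π) = (Fx φ V B).addSubgroupOf W := fun B => by
    rw [← Fx_comp]
    ext u
    exact forall₂_congr fun b _ => Subtype.ext_iff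
  have hcard : ∀ B : Subgroup G, Nat.card (Fx χ W (B.map π)) = Nat.card ↥(W ⊓ Fx φ V B) := fun B => by
    rw [hFx, ← AddSubgroup.inf_addSubgroupOf_left,
      Nat.card_congr (AddSubgroup.addSubgroupOfEquivOfLe inf_le_left).toEquiv]
  have hK' : IsComponent (K.map π) := H23.IsComponent.map_of_surjective hK hπ fun e => hWK (by
    intro u hu
    have : (⟨u, hu⟩ : W) ∈ Fx χ W (K.map π) := fun b hb => by
      rw [mem_bot.1 (e.le hb), map_one, one_smul]
    rwa [hFx] at this)
  have hcfg : Cfg χ p (K.map π) (A.map π) := by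
    refine cfg_of_min (V := W) hp (Units.val_injective.comp Subtype.val_injective) ?_ hK' ⟨?_, ?_⟩
      (by rw [← Subgroup.map_sup, htop, map_top_of_surjective _ hπ]) fun U hU => ?_
    · ext u
      rw [Module.End.natCast_apply, AddSubgroup.coe_nsmul, ← Nat.cast_smul_eq_nsmul R, hR, zero_smul]
      rfl
    · haveI := hA.1
      infer_instance
    · rintro _ ⟨a, ha, rfl⟩
      rw [← map_pow, hA.2 a ha, map_one]
    · by_contra hn
      push Not at hn
      refine hmin (U.map W.subtype) ⟨?_, fun h => hn.2 ?_⟩ (lt_of_le_of_ne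
        (AddSubgroup.map_subtype_le _) fun e => hn.1 ?_)
      · rintro g _ ⟨u, hu, rfl⟩
        exact ⟨_, hU (π g) u hu, rfl⟩
      · rw [hFx]
        exact fun u hu => h ⟨u, hu, rfl⟩
      · rw [eq_top_iff]
        intro u _
        obtain ⟨u', h1, h2⟩ := e.ge u.2
        exact Subtype.ext h2 ▸ h1
  have key : ∀ a ∈ A, π a ∈ normalizer (K.map π : Set _) → a ∈ normalizer (K : Set G) := by
    intro a _ h
    by_contra hn
    refine H23.IsComponent.not_le_centralizer hK' ?_
    rintro _ ⟨x, hx, rfl⟩ y hy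
    obtain ⟨z, hz, e⟩ := conj_mem_of_mem_normalizer' h hy
    have := congrArg π (comm_cj hK (fun e => hn (mem_normalizer_iff_cj.2 e)) hz hx)
    simp only [map_mul, map_inv, e] at this
    simpa [mul_assoc] using this.symm
  by_cases h0 : A.map π = ⊥
  · exact fun a ha => key a ha (by rw [mem_bot.1 (h0.le ⟨a, ha, rfl⟩)]; exact one_mem _)
  have := hcfg.le_normalizer (V := W) h0 fun B hB => by
    have e : (B.comap π ⊓ A).map π = B := le_antisymm (map_le_iff_le_comap.2 inf_le_left)
      fun b hb => by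
        obtain ⟨a, ha, rfl⟩ := hB hb
        exact ⟨a, ⟨hb, ha⟩, rfl⟩
    have h1 := best_inf W inf_le_right (hbest (B.comap π ⊓ A) inf_le_right)
    rw [← hcard, ← hcard, ← H1.card_map_mul_card_inf_ker π A,
      ← H1.card_map_mul_card_inf_ker π (B.comap π ⊓ A), e, ← inf_assoc,
      inf_eq_left.2 (ker_le_comap π B), mul_right_comm, mul_right_comm (Nat.card (A.map π))] at h1
    exact Nat.le_of_mul_le_mul_right h1 Nat.card_pos
  exact fun a ha => key a ha (this ⟨a, ha, rfl⟩)

/-- The `P(G, V)`-theorem. -/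
theorem le_normalizer_of_best (hp : p.Prime) (hφ : Function.Injective φ) (hR : (p : R) = 0)
    (hK : IsComponent K) (hA : IsElementaryAbelian p A)
    (hbest : ∀ B ≤ A, Nat.card B * Nat.card (Fx φ V B) ≤ Nat.card A * Nat.card (Fx φ V A)) :
    A ≤ normalizer (K : Set G) := by
  have hc : ∀ B : Subgroup ↥(K ⊔ A), Nat.card B = Nat.card (B.map (K ⊔ A).subtype) := fun B =>
    (card_map_of_injective (K ⊔ A).subtype_injective).symm
  have := le_normalizer_top (V := V) (φ := φ.comp (K ⊔ A).subtype) (K := K.subgroupOf (K ⊔ A))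
    (A := A.subgroupOf (K ⊔ A)) hp (hφ.comp (K ⊔ A).subtype_injective) hR
    (H23.IsComponent.subgroupOf hK le_sup_left)
    ⟨by haveI := hA.1; infer_instance, fun a ha => Subtype.ext (hA.2 a ha)⟩
    (by rw [← subgroupOf_sup le_sup_left le_sup_right, subgroupOf_self]) fun B hB => by
      rw [Fx_comp, Fx_comp, hc, hc, map_subgroupOf_eq_of_le le_sup_right]
      exact hbest _ (map_le_iff_le_comap.2 hB)
  refine le_normalizer_of_conj fun a ha x hx => ?_
  exact (mem_normalizer_iff.1 (this (x := ⟨a, mem_sup_right ha⟩) ha) ⟨x, mem_sup_left hx⟩).1 hx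

end H72.PGV
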